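import Mathlib
import Cfsg.Agent.Lib.Characters.Kernel
import Cfsg.Agent.Lib.Characters.Inner
import Cfsg.Agent.Lib.SmallSimple.Basic

/-!
# A simple group of even order has no irreducible character of degree two
-/

set_option linter.style.haveILetI false

namespace Cfsg.Agent.SmallSimple.Orders6232

open Cfsg.Agent.Characters Cfsg.Agent.SmallSimple
open scoped ComplexConjugate

/-- A non-abelian simple group of even order has no irreducible character of degree `2`. -/
theorem no_degree_two {G : Type*} [Group G] [Finite G] [IsSimpleGroup G]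
    (hG : ¬ IsMulCommutative G) (h2 : 2 ∣ Nat.card G) (χ : Cfsg.IrrCharacter G) :
    (χ : G → ℂ) 1 ≠ 2 := by
  classical
  intro h
  haveI := Fintype.ofFinite G
  haveI : Fact (Nat.Prime 2) := ⟨Nat.prime_two⟩
  obtain ⟨n, ρ, hρ, hρc⟩ := χ.2
  have hn : n = 2 := by
    rw [← hρc, ρ.char_one, Module.finrank_fin_fun] at h
    exact_mod_cast h
  subst hn
  let φ : G →* Matrix (Fin 2) (Fin 2) ℂ :=
    (LinearMap.toMatrixAlgEquiv' : _ ≃ₐ[ℂ] Matrix (Fin 2) (Fin 2) ℂ).toMonoidHom.comp ρ
  have hker : φ.ker = ⊥ := by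
    rcases φ.normal_ker.eq_bot_or_eq_top with hb | ht
    · exact hb
    · exfalso
      have hval : ∀ g, (χ : G → ℂ) g = 2 := fun g => by
        have hg : φ g = 1 := MonoidHom.mem_ker.1 (ht ▸ Subgroup.mem_top g)
        have hρg : ρ g = 1 := LinearMap.toMatrixAlgEquiv'.injective (by simpa [φ] using hg)
        rw [← hρc]
        simp [Representation.character, hρg]
      have h1 := classInner_isIrr_self χ.2
      simp [Cfsg.classInner, hval, Complex.conj_ofNat] at h1
      norm_num at h1
  have hdet : ∀ g, (φ g).det = 1 := fun g => by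
    have := Basic.hom_eq_one hG ((Matrix.detMonoidHom.comp φ).toHomUnits) g
    simpa using congrArg (fun u : ℂˣ => (u : ℂ)) this
  obtain ⟨t, ht⟩ := exists_prime_orderOf_dvd_card' (G := G) 2 h2
  have ht1 : t ≠ 1 := fun e => by rw [e, orderOf_one] at ht; norm_num at ht
  set M := φ t with hM
  have htt : t * t = 1 := by rw [← pow_two, ← ht, pow_orderOf_eq_one]
  have hMM : M * M = 1 := by rw [hM, ← map_mul, htt, map_one]
  have hd : M 0 0 * M 1 1 - M 0 1 * M 1 0 = 1 := by
    rw [← Matrix.det_fin_two]; exact hdet t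
  have e00 : M 0 0 * M 0 0 + M 0 1 * M 1 0 = 1 := by
    simpa [Matrix.mul_apply, Fin.sum_univ_two] using congrFun (congrFun hMM 0) 0
  have e01 : M 0 0 * M 0 1 + M 0 1 * M 1 1 = 0 := by
    simpa [Matrix.mul_apply, Fin.sum_univ_two] using congrFun (congrFun hMM 0) 1
  have e10 : M 1 0 * M 0 0 + M 1 1 * M 1 0 = 0 := by
    simpa [Matrix.mul_apply, Fin.sum_univ_two] using congrFun (congrFun hMM 1) 0
  have e11 : M 1 0 * M 0 1 + M 1 1 * M 1 1 = 1 := by
    simpa [Matrix.mul_apply, Fin.sum_univ_two] using congrFun (congrFun hMM 1) 1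
  have htr : M 0 0 + M 1 1 ≠ 0 := fun e => by
    have : (2 : ℂ) = 0 := by linear_combination -hd - e00 + M 0 0 * e
    norm_num at this
  have h01 : M 0 1 = 0 :=
    (mul_eq_zero.1 (show M 0 1 * (M 0 0 + M 1 1) = 0 by linear_combination e01)).resolve_right htr
  have h10 : M 1 0 = 0 :=
    (mul_eq_zero.1 (show M 1 0 * (M 0 0 + M 1 1) = 0 by linear_combination e10)).resolve_right htr
  have heq : M 0 0 = M 1 1 := by
    have : (M 0 0 - M 1 1) * (M 0 0 + M 1 1) = 0 := by linear_combination e00 - e11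
    exact sub_eq_zero.1 ((mul_eq_zero.1 this).resolve_right htr)
  have hscalar : M = M 0 0 • 1 := by
    ext i j
    fin_cases i <;> fin_cases j <;> simp [h01, h10, heq]
  refine ht1 (Subgroup.mem_bot.1 (Basic.center_eq_bot hG ▸ Subgroup.mem_center_iff.2 fun g => ?_))
  refine (MonoidHom.ker_eq_bot_iff φ).1 hker ?_
  rw [map_mul, map_mul, ← hM, hscalar, mul_smul_comm, smul_mul_assoc, mul_one, one_mul]

end Cfsg.Agent.SmallSimple.Orders6232
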