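import Cfsg.Agent.Lib.SmallSimple.Orders6232.Tools
import Cfsg.Agent.Lib.SmallSimple.Orders6232.DegreeTwo


/-!
# Orders excluded by counting equations and character degrees
-/

set_option autoImplicit false
set_option linter.style.haveILetI false

namespace Cfsg.Agent.SmallSimple.Orders6232

open Subgroup MulAction

variable {G : Type*} [Group G] [Finite G] [IsSimpleGroup G]

theorem ne_5236 : Nat.card G ≠ 5236 := by
  intro h
  have hG : ¬ IsMulCommutative G := Basic.not_comm_of_not_prime (by rw [h]; norm_num)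
  have := three_dvd_of_four hG (m := 1309) (by rw [h]) (by norm_num)
  rw [h] at this
  norm_num at this

theorem ne_5852 : Nat.card G ≠ 5852 := by
  intro h
  have hG : ¬ IsMulCommutative G := Basic.not_comm_of_not_prime (by rw [h]; norm_num)
  have := three_dvd_of_four hG (m := 1463) (by rw [h]) (by norm_num)
  rw [h] at this
  norm_num at this

theorem ne_5200 : Nat.card G ≠ 5200 := by
  intro h
  have hG : ¬ IsMulCommutative G := Basic.not_comm_of_not_prime (by rw [h]; norm_num)
  haveI : Fact (Nat.Prime 13) := ⟨by norm_num⟩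
  obtain ⟨P, n, e, k, hP, hn, -, hC, hN, hnm, hem, hpk, hO⟩ :=
    data (p := 13) hG (by norm_num) h (by norm_num) (by norm_num)
  have key : ∀ n ∈ (5200 / 13).divisors, ∀ e ∈ (13 - 1).divisors, ¬ Opt 5200 13 n e := by
    decide +kernel
  exact key n hnm e hem hO

theorem ne_4760 : Nat.card G ≠ 4760 := by
  intro h
  have hG : ¬ IsMulCommutative G := Basic.not_comm_of_not_prime (by rw [h]; norm_num)
  haveI : Fact (Nat.Prime 5) := ⟨by norm_num⟩
  obtain ⟨P, n, e, k, hP, hn, hk, hC, hN, hnm, hem, hpk, hO⟩ :=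
    data (p := 5) hG (by norm_num) h (by norm_num) (by norm_num)
  have key : ∀ n ∈ (4760 / 5).divisors, ∀ e ∈ (5 - 1).divisors, Opt 4760 5 n e →
      n = 476 ∧ e = 2 := by decide +kernel
  obtain ⟨rfl, rfl⟩ := key n hnm e hem hO
  norm_num at hk
  subst hk
  exact false_of_equation hG (by norm_num) h (by norm_num) P hP hC hN (by decide +kernel)

theorem ne_5104 : Nat.card G ≠ 5104 := by
  intro h
  have hG : ¬ IsMulCommutative G := Basic.not_comm_of_not_prime (by rw [h]; norm_num)
  haveI : Fact (Nat.Prime 29) := ⟨by norm_num⟩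
  obtain ⟨P, n, e, k, hP, hn, hk, hC, hN, hnm, hem, hpk, hO⟩ :=
    data (p := 29) hG (by norm_num) h (by norm_num) (by norm_num)
  have key : ∀ n ∈ (5104 / 29).divisors, ∀ e ∈ (29 - 1).divisors, Opt 5104 29 n e →
      n = 88 ∧ e = 2 := by decide +kernel
  obtain ⟨rfl, rfl⟩ := key n hnm e hem hO
  norm_num at hk
  subst hk
  exact false_of_equation hG (by norm_num) h (by norm_num) P hP hC hN (by decide +kernel)

theorem ne_4620 : Nat.card G ≠ 4620 := by
  intro h
  have hG : ¬ IsMulCommutative G := Basic.not_comm_of_not_prime (by rw [h]; norm_num)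
  haveI : Fact (Nat.Prime 7) := ⟨by norm_num⟩
  obtain ⟨P, n, e, k, hP, hn, hk, hC, hN, hnm, hem, hpk, hO⟩ :=
    data (p := 7) hG (by norm_num) h (by norm_num) (by norm_num)
  have key : ∀ n ∈ (4620 / 7).divisors, ∀ e ∈ (7 - 1).divisors, Opt 4620 7 n e →
      n = 330 ∧ e = 2 := by decide +kernel
  obtain ⟨rfl, rfl⟩ := key n hnm e hem hO
  norm_num at hk
  subst hk
  exact false_of_equation hG (by norm_num) h (by norm_num) P hP hC hN (by decide +kernel)

theorem ne_4400 : Nat.card G ≠ 4400 := by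
  intro h
  classical
  have hG : ¬ IsMulCommutative G := Basic.not_comm_of_not_prime (by rw [h]; norm_num)
  haveI : Fact (Nat.Prime 11) := ⟨by norm_num⟩
  haveI : Fact (Nat.Prime 2) := ⟨Nat.prime_two⟩
  obtain ⟨P, n, e, k, hP, hn, hk, hC, hN, hnm, hem, hpk, hO⟩ :=
    data (p := 11) hG (by norm_num) h (by norm_num) (by norm_num)
  have key : ∀ n ∈ (4400 / 11).divisors, ∀ e ∈ (11 - 1).divisors, Opt 4400 11 n e →
      n = 100 ∧ e = 2 := by decide +kernel
  obtain ⟨rfl, rfl⟩ := key n hnm e hem hO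
  norm_num at hk
  subst hk
  obtain ⟨t, ht, hNt⟩ := Orders1092.normalizer_le_centralizer_involution (by norm_num) P hP hC
  have ht1 : t ≠ 1 := fun e => by rw [e, orderOf_one] at ht; norm_num at ht
  have htC : t ∈ centralizer ((P : Subgroup G) : Set G) := mem_centralizer_iff.2 fun z hz =>
    mem_centralizer_singleton_iff.1 (hNt (le_normalizer hz))
  have htN := centralizer_le_normalizer _ htC
  have hfix := FixedPoints.card_fixed_mul P t
  have hone : Nat.card {y : G // IsConj t y ∧ y ∈ normalizer ((P : Subgroup G) : Set G)} ≤ 2 := by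
    refine le_trans ?_ (card_elements_le P hP hC (m := 2) (by norm_num))
    refine Nat.card_le_card_of_injective (fun y => ⟨y.1, ?_, pow_conj_eq_one y.2.1
      (ht ▸ pow_orderOf_eq_one t)⟩) (fun a b hab => Subtype.ext (congrArg (fun z => z.1) hab))
    by_contra hyC
    have hle := fix_le P hP y.2.2 hyC
    rw [← Order2520.card_fixed_conj y.2.1, hn] at hle
    have h1 := fix_mod_one P hP htC
    have h4 := FixedPoints.four_dvd_moved hG (α := Sylow 11 G) (show t * t = 1 by
      rw [← pow_two, ← ht, pow_orderOf_eq_one])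
    rw [hn] at h4
    omega
  have hpos : 0 < Nat.card {y : G // IsConj t y ∧ y ∈ normalizer ((P : Subgroup G) : Set G)} :=
    haveI : Nonempty {y : G // IsConj t y ∧ y ∈ normalizer ((P : Subgroup G) : Set G)} :=
      ⟨⟨t, IsConj.refl t, htN⟩⟩
    Nat.card_pos
  have h1 := fix_mod_one P hP htC
  have h4 := FixedPoints.four_dvd_moved hG (α := Sylow 11 G) (show t * t = 1 by
    rw [← pow_two, ← ht, pow_orderOf_eq_one])
  have hlt := fix_lt (p := 11) hG (h ▸ by norm_num) ht1
  rw [hN] at hfix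
  rw [hn] at h4 hlt
  have hCd : Nat.card (centralizer ({t} : Set G)) ∣ 4400 := h ▸ card_subgroup_dvd_card _
  generalize Nat.card {Q : Sylow 11 G // t • Q = Q} = f at h1 h4 hlt hfix
  generalize Nat.card {y : G // IsConj t y ∧ y ∈ normalizer ((P : Subgroup G) : Set G)} = j at hone hpos hfix
  generalize Nat.card (centralizer ({t} : Set G)) = c at hCd hfix
  have key2 : ∀ f ∈ List.range 100, f % 11 = 1 → 4 ∣ 100 - f → ∀ j ∈ [1, 2],
      44 * f % j = 0 → ¬ (44 * f / j ∣ 4400) := by decide +kernel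
  refine key2 f (List.mem_range.2 hlt) h1 h4 j (by simp; omega) ?_ ?_
  · rw [show 44 * f = c * j by omega, Nat.mul_mod_left]
  · rwa [show 44 * f = c * j by omega, Nat.mul_div_cancel _ hpos]

/-- A multiset of signed degrees from the exceptional characters of a Sylow `53`-subgroup. -/
theorem ne_5724 : Nat.card G ≠ 5724 := by
  intro h
  haveI := Fintype.ofFinite G
  have hG : ¬ IsMulCommutative G := Basic.not_comm_of_not_prime (by rw [h]; norm_num)
  haveI : Fact (Nat.Prime 53) := ⟨by norm_num⟩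
  obtain ⟨P, n, e, k, hP, hn, hk, hC, hN, hnm, hem, hpk, hO⟩ :=
    data (p := 53) hG (by norm_num) h (by norm_num) (by norm_num)
  have key : ∀ n ∈ (5724 / 53).divisors, ∀ e ∈ (53 - 1).divisors, Opt 5724 53 n e →
      n = 54 ∧ e = 2 := by decide +kernel
  obtain ⟨rfl, rfl⟩ := key n hnm e hem hO
  norm_num at hk
  subst hk
  obtain ⟨hSC, hidx⟩ := Orders.selfCent_of_prime_index hG P hP Nat.prime_two hN
  obtain ⟨ε, c, X, s, hε, hX1, hXd, hXc, hsq, hdeg, hsum, hs⟩ :=
    Exceptional.degree_data hG hSC hidx (t := 26) (by rw [hP]) (by norm_num)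
  have hcard := Orders.multiset_card_le s (fun v hv => (hs v hv).1)
  obtain ⟨rfl, hr⟩ := Orders.c_eq_zero hε (by norm_num) (le_trans (Int.natCast_nonneg _) hcard) hsq
  rw [hP] at hXc
  rw [h] at hXd hsum
  have hX14 : X ≤ 14 := by
    by_contra hbig
    have := Nat.pow_le_pow_left (show 15 ≤ X by omega) 2
    omega
  have keyX : ∀ X ∈ List.range 15, 1 < X → X ∣ 5724 →
      ¬ ((53 : ℤ) ∣ (X : ℤ) + 2) ∧ ((53 : ℤ) ∣ (X : ℤ) - 2 → X = 2) := by decide +kernel
  obtain ⟨k1, k2⟩ := keyX X (List.mem_range.2 (by omega)) hX1 hXd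
  obtain rfl : ε = -1 := hε.resolve_left (by rintro rfl; exact k1 (by simpa using hXc))
  obtain rfl := k2 (by norm_num at hXc ⊢; exact hXc)
  have hc1 : Multiset.card s ≤ 1 := by
    have : (Multiset.card s : ℤ) ≤ 1 := by norm_num at hr; linarith
    exact_mod_cast this
  rcases Nat.le_one_iff_eq_zero_or_eq_one.1 hc1 with h0 | h1
  · rw [Multiset.card_eq_zero.1 h0] at hr
    norm_num at hr
  · obtain ⟨v, rfl⟩ := Multiset.card_eq_one.1 h1
    obtain ⟨hv0, hv1, -, -⟩ := hs v (Multiset.mem_singleton_self v)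
    simp only [Multiset.map_singleton, Multiset.sum_singleton] at hr hdeg
    norm_num at hr hdeg
    rcases hr with h' | h' <;> rw [h'] at hdeg <;> omega

set_option maxHeartbeats 800000 in
theorem ne_4960 : Nat.card G ≠ 4960 := by
  intro h
  haveI := Fintype.ofFinite G
  have hG : ¬ IsMulCommutative G := Basic.not_comm_of_not_prime (by rw [h]; norm_num)
  haveI : Fact (Nat.Prime 31) := ⟨by norm_num⟩
  obtain ⟨P, n, e, k, hP, hn, hk, hC, hN, hnm, hem, hpk, hO⟩ :=
    data (p := 31) hG (by norm_num) h (by norm_num) (by norm_num)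
  have key : ∀ n ∈ (4960 / 31).divisors, ∀ e ∈ (31 - 1).divisors, Opt 4960 31 n e →
      n = 32 ∧ e = 5 := by decide +kernel
  obtain ⟨rfl, rfl⟩ := key n hnm e hem hO
  norm_num at hk
  subst hk
  obtain ⟨hSC, hidx⟩ := Orders.selfCent_of_prime_index hG P hP (e := 5) (by norm_num) hN
  obtain ⟨ε, c, X, s, hε, hX1, hXd, hXc, hsq, hdeg, hsum, hs⟩ :=
    Exceptional.degree_data' hG hSC hidx (t := 6) (by rw [hP]) (by norm_num)
  have hno := no_degree_two hG (h ▸ by norm_num)
  rw [hP] at hXc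
  rw [h] at hXd hsum
  have hnn : 0 ≤ (s.map fun v => v.1 ^ 2).sum := Multiset.sum_nonneg (by
    intro a ha
    obtain ⟨w, -, rfl⟩ := Multiset.mem_map.1 ha
    exact sq_nonneg _)
  have hs0 : (s.map fun v => v.1 ^ 2).sum = 0 → s = 0 := by
    intro h0
    by_contra hne
    obtain ⟨v, hv⟩ := Multiset.exists_mem_of_ne_zero hne
    obtain ⟨s', rfl⟩ := Multiset.exists_cons_of_mem hv
    rw [Multiset.map_cons, Multiset.sum_cons] at h0
    have := sq_pos_of_ne_zero (hs v hv).1
    have : 0 ≤ (s'.map fun v => v.1 ^ 2).sum := Multiset.sum_nonneg (by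
      intro a ha
      obtain ⟨w, -, rfl⟩ := Multiset.mem_map.1 ha
      exact sq_nonneg _)
    omega
  norm_num at hsq hdeg hXc
  have hc : c = 0 := by
    by_contra hc
    have h1 : 1 ≤ c ^ 2 := Int.add_one_le_iff.2 (sq_pos_of_ne_zero hc)
    have h2 : c = -ε := by
      have : (c + ε) ^ 2 = 0 := le_antisymm (by nlinarith) (sq_nonneg _)
      have := pow_eq_zero_iff (n := 2) (by norm_num) |>.1 this
      omega
    subst h2
    have : (s.map fun v => v.1 ^ 2).sum = 0 := by rcases hε with rfl | rfl <;> norm_num at hsq <;> omega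
    rw [hs0 this] at hdeg
    norm_num at hdeg
    rcases hε with rfl | rfl <;> omega
  subst hc
  have hX : X ≤ 28 := by
    by_contra hbig
    have := Nat.pow_le_pow_left (show 29 ≤ X by omega) 2
    omega
  have keyX : ∀ X ∈ List.range 29, 1 < X → X ∣ 4960 →
      ¬ ((31 : ℤ) ∣ (X : ℤ) + 5) ∧ ((31 : ℤ) ∣ (X : ℤ) - 5 → X = 5) := by decide +kernel
  obtain ⟨k1, k2⟩ := keyX X (List.mem_range.2 (by omega)) hX1 hXd
  obtain rfl : ε = -1 := hε.resolve_left (by rintro rfl; exact k1 (by simpa using hXc))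
  obtain rfl := k2 (by norm_num at hXc ⊢; exact hXc)
  norm_num at hsq hdeg
  have hv : ∀ v ∈ s, v.1 = 1 ∧ v.2 = 32 := by
    intro v hv
    obtain ⟨hv0, hv1, hvd, hvc, χ, hχ⟩ := hs v hv
    rw [h] at hvd
    rw [hP] at hvc
    obtain ⟨s', rfl⟩ := Multiset.exists_cons_of_mem hv
    simp only [Multiset.map_cons, Multiset.sum_cons] at hsq hsum
    have : 0 ≤ (s'.map fun v => v.1 ^ 2).sum := Multiset.sum_nonneg (by
      intro a ha
      obtain ⟨w, -, rfl⟩ := Multiset.mem_map.1 ha
      exact sq_nonneg _)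
    have hle : v.1 ^ 2 ≤ 4 := by linarith
    have hb1 : v.1 ≤ 2 := by nlinarith
    have hb2 : -2 ≤ v.1 := by nlinarith
    have hd70 : v.2 ≤ 70 := by
      by_contra hbig
      have := Nat.pow_le_pow_left (show 71 ≤ v.2 by omega) 2
      omega
    have keyv : ∀ d ∈ List.range 71, 1 < d → d ∣ 4960 → ∀ a ∈ [(-2 : ℤ), -1, 0, 1, 2],
        (31 : ℤ) ∣ (d : ℤ) - a → a = 0 ∨ (d = 2 ∧ a = 2) ∨ (a = 1 ∧ d = 32) := by decide +kernel
    rcases keyv v.2 (List.mem_range.2 (by omega)) hv1 hvd v.1 (by simp; omega) hvc with h' | h' | h'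
    · exact absurd h' hv0
    · exact absurd (by rw [hχ, h'.1]; norm_num) (hno χ)
    · exact h'
  have hdeg32 : (32 : ℤ) ∣ (s.map fun v => v.1 * (v.2 : ℤ)).sum := Multiset.dvd_sum (by
    intro a ha
    obtain ⟨w, hw, rfl⟩ := Multiset.mem_map.1 ha
    rw [(hv w hw).1, (hv w hw).2]
    norm_num)
  omega

set_option maxHeartbeats 800000 in
theorem ne_4212 : Nat.card G ≠ 4212 := by
  intro h
  classical
  have hG : ¬ IsMulCommutative G := Basic.not_comm_of_not_prime (by rw [h]; norm_num)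
  haveI : Fact (Nat.Prime 13) := ⟨by norm_num⟩
  haveI : Fact (Nat.Prime 2) := ⟨Nat.prime_two⟩
  obtain ⟨P, n, e, k, hP, hn, hk, hC, hN, hnm, hem, hpk, hO⟩ :=
    data (p := 13) hG (by norm_num) h (by norm_num) (by norm_num)
  have key : ∀ n ∈ (4212 / 13).divisors, ∀ e ∈ (13 - 1).divisors, Opt 4212 13 n e →
      n = 27 ∧ e = 12 := by decide +kernel
  obtain ⟨rfl, rfl⟩ := key n hnm e hem hO
  norm_num at hk
  subst hk
  -- a Sylow `2`-subgroup of `N(P)` embeds in the automorphisms of `P`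
  have hidx : ¬ 2 ∣ (normalizer ((P : Subgroup G) : Set G)).index := by
    have := card_mul_index (normalizer ((P : Subgroup G) : Set G))
    rw [hN, h] at this
    omega
  obtain ⟨⟨u, hu⟩, huo⟩ := exists_prime_orderOf_dvd_card'
    (G := normalizer ((P : Subgroup G) : Set G)) 2 (hN.symm ▸ by norm_num)
  rw [Subgroup.orderOf_mk] at huo
  obtain ⟨T, hTN, -⟩ := exists_sylow_le_mem _ hidx hu huo
  have hT : Nat.card (T : Subgroup G) = 4 := by
    rw [Basic.card_sylow_eq_pow (a := 2) (m := 1053) (by rw [h]; norm_num) (by norm_num) T]; norm_num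
  haveI : IsCyclic (T : Subgroup G) := isCyclic_of_le_normalizer P hP hTN
    (by rw [hT, hC]; norm_num)
  obtain ⟨H, hH⟩ := Cfsg.Agent.Involutions.ThompsonTransfer.exists_index_two_of_isCyclic_sylow
    (h ▸ by decide) T inferInstance
  have hHtop : H ≠ ⊤ := fun e => by rw [e, index_top] at hH; norm_num at hH
  have := Basic.two_mul_card_dvd_factorial hG H hHtop
  rw [hH, h] at this
  norm_num at this

end Cfsg.Agent.SmallSimple.Orders6232
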