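import Cfsg.Agent.Lib.SmallSimple.Orders6232.Tools

/-!
# Orders excluded by the fixed points of elements of `C(P)`
-/

set_option autoImplicit false
set_option linter.style.haveILetI false

namespace Cfsg.Agent.SmallSimple.Orders6232

open Subgroup MulAction

variable {G : Type*} [Group G] [Finite G] [IsSimpleGroup G]

theorem ne_3696 : Nat.card G ≠ 3696 := by
  intro h
  classical
  have hG : ¬ IsMulCommutative G := Basic.not_comm_of_not_prime (by rw [h]; norm_num)
  haveI : Fact (Nat.Prime 11) := ⟨by norm_num⟩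
  haveI : Fact (Nat.Prime 3) := ⟨by norm_num⟩
  obtain ⟨P, n, e, k, hP, hn, hk, hC, hN, hnm, hem, hpk, hO⟩ :=
    data (p := 11) hG (by norm_num) h (by norm_num) (by norm_num)
  have key : ∀ n ∈ (3696 / 11).divisors, ∀ e ∈ (11 - 1).divisors, Opt 3696 11 n e →
      n = 56 ∧ e = 2 := by decide +kernel
  obtain ⟨rfl, rfl⟩ := key n hnm e hem hO
  norm_num at hk
  subst hk
  have h3 : ∀ Q : Sylow 3 G, Nat.card (Q : Subgroup G) = 3 := fun Q => by
    rw [Basic.card_sylow_eq_pow (a := 1) (m := 1232) (by rw [h]; norm_num) (by norm_num) Q, pow_one]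
  obtain ⟨Q, -, hle⟩ := normalizer_le_normalizer P hP (by norm_num) hC h3
  have hr := FixedPoints.relIndex_normalizer_mod P (le_normalizer.trans hle)
  have hmul := relIndex_mul_relIndex ⊥ _ _ bot_le hle
  rw [relIndex_bot_left, relIndex_bot_left, hN] at hmul
  have hQn := Basic.card_normalizer_mul Q
  have hQm := card_sylow_modEq_one 3 G
  rw [Nat.ModEq] at hQm
  rw [← hmul, h] at hQn
  generalize (normalizer ((P : Subgroup G) : Set G)).relIndex
    (normalizer ((Q : Subgroup G) : Set G)) = r at hr hQn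
  generalize hn3 : Nat.card (Sylow 3 G) = n3 at hQn hQm
  have h1 := Basic.one_lt_card_sylow (p := 3) hG (h ▸ by norm_num)
  rw [hn3] at h1
  have key2 : ∀ r ∈ List.range 57, r ∣ 56 → r % 11 = 1 → r = 1 ∨ r = 56 := by decide +kernel
  have hrd : r ∣ 56 := ⟨n3, by
    have : r * n3 = 56 := by
      have : 66 * (r * n3) = 66 * 56 := by rw [← mul_assoc]; omega
      omega
    omega⟩
  rcases key2 r (List.mem_range.2 (Nat.lt_succ_of_le (Nat.le_of_dvd (by norm_num) hrd))) hrd hr with
    rfl | rfl <;> omega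

theorem ne_3780 : Nat.card G ≠ 3780 := by
  intro h
  classical
  have hG : ¬ IsMulCommutative G := Basic.not_comm_of_not_prime (by rw [h]; norm_num)
  haveI : Fact (Nat.Prime 7) := ⟨by norm_num⟩
  haveI : Fact (Nat.Prime 5) := ⟨by norm_num⟩
  obtain ⟨P, n, e, k, hP, hn, hk, hC, hN, hnm, hem, hpk, hO⟩ :=
    data (p := 7) hG (by norm_num) h (by norm_num) (by norm_num)
  have key : ∀ n ∈ (3780 / 7).divisors, ∀ e ∈ (7 - 1).divisors, Opt 3780 7 n e →
      n = 36 ∧ e = 3 := by decide +kernel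
  obtain ⟨rfl, rfl⟩ := key n hnm e hem hO
  norm_num at hk
  subst hk
  have h5 : ∀ Q : Sylow 5 G, Nat.card (Q : Subgroup G) = 5 := fun Q => by
    rw [Basic.card_sylow_eq_pow (a := 1) (m := 756) (by rw [h]; norm_num) (by norm_num) Q, pow_one]
  obtain ⟨Q, -, hle⟩ := normalizer_le_normalizer P hP (by norm_num) hC h5
  have hr := FixedPoints.relIndex_normalizer_mod P (le_normalizer.trans hle)
  have hmul := relIndex_mul_relIndex ⊥ _ _ bot_le hle
  rw [relIndex_bot_left, relIndex_bot_left, hN] at hmul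
  obtain ⟨e', he', he'1, hNQ, hCQ⟩ := Centralize.centralizer_data hG Q (h5 Q)
  have hQn := Basic.card_normalizer_mul Q
  have h1 := Basic.one_lt_card_sylow (p := 5) hG (h ▸ by norm_num)
  rw [← hmul, h] at hQn
  rw [← hmul] at hNQ
  generalize (normalizer ((P : Subgroup G) : Set G)).relIndex
    (normalizer ((Q : Subgroup G) : Set G)) = r at hr hQn hNQ
  generalize Nat.card (Sylow 5 G) = n5 at hQn h1
  generalize Nat.card (centralizer ((Q : Subgroup G) : Set G)) = cQ at hNQ hCQ
  have key2 : ∀ r ∈ List.range 37, r ∣ 36 → r % 7 = 1 → r = 1 ∨ r = 36 := by decide +kernel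
  have hrd : r ∣ 36 := ⟨n5, by
    have : r * n5 = 36 := by
      have : 105 * (r * n5) = 105 * 36 := by rw [← mul_assoc]; omega
      omega
    omega⟩
  rcases key2 r (List.mem_range.2 (Nat.lt_succ_of_le (Nat.le_of_dvd (by norm_num) hrd))) hrd hr with
    rfl | rfl
  · have hle4 := Nat.le_of_dvd (by norm_num) he'
    interval_cases e' <;> omega
  · omega

theorem ne_4680 : Nat.card G ≠ 4680 := by
  intro h
  classical
  have hG : ¬ IsMulCommutative G := Basic.not_comm_of_not_prime (by rw [h]; norm_num)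
  haveI : Fact (Nat.Prime 13) := ⟨by norm_num⟩
  haveI : Fact (Nat.Prime 3) := ⟨by norm_num⟩
  obtain ⟨P, n, e, k, hP, hn, hk, hC, hN, hnm, hem, hpk, hO⟩ :=
    data (p := 13) hG (by norm_num) h (by norm_num) (by norm_num)
  have key : ∀ n ∈ (4680 / 13).divisors, ∀ e ∈ (13 - 1).divisors, Opt 4680 13 n e →
      n = 40 ∧ e = 3 := by decide +kernel
  obtain ⟨rfl, rfl⟩ := key n hnm e hem hO
  norm_num at hk
  subst hk
  obtain ⟨⟨w, hw⟩, hwo⟩ := exists_prime_orderOf_dvd_card'
    (G := centralizer ((P : Subgroup G) : Set G)) 3 (hC.symm ▸ dvd_mul_left 3 13)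
  rw [Subgroup.orderOf_mk] at hwo
  have hw1 : w ≠ 1 := fun e => by rw [e, orderOf_one] at hwo; norm_num at hwo
  set N := normalizer ((P : Subgroup G) : Set G) with hNdef
  have hwN : w ∈ N := centralizer_le_normalizer _ hw
  have h1 := fix_mod_one P hP hw
  have h3 := fix_mod_prime (α := Sylow 13 G) hwo
  have hlt := fix_lt (p := 13) hG (h ▸ by norm_num) hw1
  rw [hn] at h3 hlt
  have hf1 : Nat.card {Q : Sylow 13 G // w • Q = Q} = 1 := by
    generalize Nat.card {Q : Sylow 13 G // w • Q = Q} = f at h1 h3 hlt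
    omega
  have hfix := FixedPoints.card_fixed_mul P w
  rw [hf1, ← hNdef, hN] at hfix
  -- a Sylow `3`-subgroup centralising `w`
  obtain ⟨T, hT⟩ := (IsPGroup.of_card (n := 1) (by rw [Nat.card_zpowers, hwo, pow_one]) :
    IsPGroup 3 (zpowers w)).exists_le_sylow
  have hTc : Nat.card (T : Subgroup G) = 9 := by
    rw [Basic.card_sylow_eq_pow (a := 2) (m := 520) (by rw [h]; norm_num) (by norm_num) T]; norm_num
  haveI : IsMulCommutative (T : Subgroup G) :=
    IsPGroup.isMulCommutative_of_card_eq_prime_sq (p := 3) (by rw [hTc]; norm_num)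
  have hwT : w ∈ (T : Subgroup G) := hT (mem_zpowers w)
  have hTw : (T : Subgroup G) ≤ centralizer ({w} : Set G) := fun z hz =>
    mem_centralizer_singleton_iff.2
      (congrArg Subtype.val (mul_comm' (⟨z, hz⟩ : (T : Subgroup G)) ⟨w, hwT⟩))
  have h9 : 9 ∣ Nat.card (centralizer ({w} : Set G)) := hTc ▸ card_dvd_of_le hTw
  have h13 : 13 ∣ Nat.card (centralizer ({w} : Set G)) := by
    rw [← hP]
    exact card_dvd_of_le fun z hz => mem_centralizer_singleton_iff.2 (mem_centralizer_iff.1 hw z hz)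
  have hone : Nat.card {y : G // IsConj w y ∧ y ∈ N} = 1 := by
    haveI : Nonempty {y : G // IsConj w y ∧ y ∈ N} := ⟨⟨w, IsConj.refl w, hwN⟩⟩
    have hpos : 0 < Nat.card {y : G // IsConj w y ∧ y ∈ N} := Nat.card_pos
    have h117 : 117 ∣ Nat.card (centralizer ({w} : Set G)) :=
      (show Nat.Coprime 9 13 by norm_num).mul_dvd_of_dvd_of_dvd h9 h13
    obtain ⟨a, ha⟩ := h117
    rw [ha] at hfix
    generalize Nat.card {y : G // IsConj w y ∧ y ∈ N} = j at hpos hfix ⊢
    have : a * j = 1 := by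
      have : 117 * (a * j) = 117 * 1 := by rw [← mul_assoc]; omega
      omega
    exact Nat.eq_one_of_mul_eq_one_left this
  have huniq : ∀ y : G, IsConj w y → y ∈ N → y = w := fun y hy hyN => congrArg Subtype.val
    (@Subsingleton.elim _ (Nat.card_eq_one_iff_unique.1 hone).1 (⟨y, hy, hyN⟩ : {y : G // IsConj w y ∧ y ∈ N})
      ⟨w, IsConj.refl w, hwN⟩)
  have hTN : (T : Subgroup G) ≤ N := by
    intro z hz
    refine Sylow.smul_eq_iff_mem_normalizer.1 ?_
    obtain ⟨Q, hQ⟩ := Nat.card_eq_one_iff_exists.1 hf1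
    have hzP : w • (z • P) = z • P := by
      rw [← mul_smul, show w * z = z * w from (mem_centralizer_singleton_iff.1 (hTw hz)).symm,
        mul_smul, Sylow.smul_eq_iff_mem_normalizer.2 hwN]
    exact congrArg Subtype.val ((hQ ⟨z • P, hzP⟩).trans
      (hQ ⟨P, Sylow.smul_eq_iff_mem_normalizer.2 hwN⟩).symm)
  refine hw1 (Centralize.eq_one_of_central_in_normalizer hG T hwT fun g hg => ?_)
  have : g * w * g⁻¹ = w := huniq _ (isConj_iff.2 ⟨g, rfl⟩)
    (hTN ((mem_normalizer_iff.1 hg w).1 hwT))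
  exact mul_inv_eq_iff_eq_mul.1 this

theorem ne_5148 : Nat.card G ≠ 5148 := by
  intro h
  classical
  have hG : ¬ IsMulCommutative G := Basic.not_comm_of_not_prime (by rw [h]; norm_num)
  haveI : Fact (Nat.Prime 11) := ⟨by norm_num⟩
  haveI : Fact (Nat.Prime 3) := ⟨by norm_num⟩
  obtain ⟨P, n, e, k, hP, hn, hk, hC, hN, hnm, hem, hpk, hO⟩ :=
    data (p := 11) hG (by norm_num) h (by norm_num) (by norm_num)
  have key : ∀ n ∈ (5148 / 11).divisors, ∀ e ∈ (11 - 1).divisors, Opt 5148 11 n e →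
      n = 78 ∧ e = 2 := by decide +kernel
  obtain ⟨rfl, rfl⟩ := key n hnm e hem hO
  norm_num at hk
  subst hk
  obtain ⟨⟨w, hw⟩, hwo⟩ := exists_prime_orderOf_dvd_card'
    (G := centralizer ((P : Subgroup G) : Set G)) 3 (hC.symm ▸ dvd_mul_left 3 11)
  rw [Subgroup.orderOf_mk] at hwo
  have hw1 : w ≠ 1 := fun e => by rw [e, orderOf_one] at hwo; norm_num at hwo
  have h1 := fix_mod_one P hP hw
  have h3 := fix_mod_prime (α := Sylow 11 G) hwo
  have hlt := fix_lt (p := 11) hG (h ▸ by norm_num) hw1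
  rw [hn] at h3 hlt
  have hle : Nat.card {y : G // IsConj w y ∧ y ∈ normalizer ((P : Subgroup G) : Set G)} ≤ 3 := by
    refine le_trans ?_ (card_elements_le P hP hC (m := 3) (by norm_num))
    refine Nat.card_le_card_of_injective (fun y => ⟨y.1, ?_, pow_conj_eq_one y.2.1
      (hwo ▸ pow_orderOf_eq_one w)⟩) (fun a b hab => Subtype.ext (congrArg (fun z => z.1) hab))
    refine conj_mem_centralizer P hP ?_ y.2.1 y.2.2
    rw [hn]
    generalize Nat.card {Q : Sylow 11 G // w • Q = Q} = f at h1 h3 hlt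
    omega
  have hpos : 0 < Nat.card {y : G // IsConj w y ∧ y ∈ normalizer ((P : Subgroup G) : Set G)} :=
    haveI : Nonempty {y : G // IsConj w y ∧ y ∈ normalizer ((P : Subgroup G) : Set G)} :=
      ⟨⟨w, IsConj.refl w, centralizer_le_normalizer _ hw⟩⟩
    Nat.card_pos
  have hfix := FixedPoints.card_fixed_mul P w
  rw [hN] at hfix
  have hCd : Nat.card (centralizer ({w} : Set G)) ∣ 5148 := h ▸ card_subgroup_dvd_card _
  have hidx := card_mul_index (centralizer ({w} : Set G))
  rw [h] at hidx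
  obtain ⟨x, hx, hx1, hxo⟩ := Order2520.exists_gen hP
  refine hw1 (Centralize.eq_one_of_index_le hG (p := 11) (by norm_num) _
    (Orders1092.centralizer_ne_top hG hw1) ?_ hxo (mem_centralizer_iff.1 hw x hx)
    (hwo ▸ by norm_num))
  generalize Nat.card {Q : Sylow 11 G // w • Q = Q} = f at h1 h3 hlt hfix
  generalize Nat.card {y : G // IsConj w y ∧ y ∈ normalizer ((P : Subgroup G) : Set G)} = j at hle hpos hfix
  generalize Nat.card (centralizer ({w} : Set G)) = c at hCd hfix hidx
  have key2 : ∀ f ∈ List.range 78, f % 11 = 1 → f % 3 = 0 → ∀ j ∈ [1, 2, 3],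
      66 * f % j = 0 → 66 * f / j ∣ 5148 → 396 ≤ 66 * f / j := by decide +kernel
  have hc : 396 ≤ c := by
    have he : 66 * f = c * j := by omega
    have := key2 f (List.mem_range.2 hlt) h1 h3 j (by simp; omega)
      (by rw [he, Nat.mul_mod_left]) (by rwa [he, Nat.mul_div_cancel _ hpos])
    rwa [he, Nat.mul_div_cancel _ hpos] at this
  by_contra hbig
  have := Nat.mul_le_mul hc (Nat.le_of_not_lt fun hh => hbig (Nat.le_of_lt_succ hh) :
    14 ≤ (centralizer ({w} : Set G)).index)
  omega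

theorem ne_4928 : Nat.card G ≠ 4928 := by
  intro h
  classical
  have hG : ¬ IsMulCommutative G := Basic.not_comm_of_not_prime (by rw [h]; norm_num)
  haveI : Fact (Nat.Prime 11) := ⟨by norm_num⟩
  haveI : Fact (Nat.Prime 2) := ⟨Nat.prime_two⟩
  obtain ⟨P, n, e, k, hP, hn, hk, hC, hN, hnm, hem, hpk, hO⟩ :=
    data (p := 11) hG (by norm_num) h (by norm_num) (by norm_num)
  have key : ∀ n ∈ (4928 / 11).divisors, ∀ e ∈ (11 - 1).divisors, Opt 4928 11 n e →
      n = 56 ∧ e = 2 := by decide +kernel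
  obtain ⟨rfl, rfl⟩ := key n hnm e hem hO
  norm_num at hk
  subst hk
  set C := centralizer ((P : Subgroup G) : Set G) with hCdef
  set N := normalizer ((P : Subgroup G) : Set G) with hNdef
  obtain ⟨⟨t, ht⟩, hto⟩ := exists_prime_orderOf_dvd_card' (G := C) 2 (hC.symm ▸ by norm_num)
  rw [Subgroup.orderOf_mk] at hto
  have ht1 : t ≠ 1 := fun e => by rw [e, orderOf_one] at hto; norm_num at hto
  have h1 := fix_mod_one P hP ht
  have h4 := FixedPoints.four_dvd_moved hG (α := Sylow 11 G) (show t * t = 1 by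
    rw [← pow_two, ← hto, pow_orderOf_eq_one])
  have hlt := fix_lt (p := 11) hG (h ▸ by norm_num) ht1
  rw [hn] at h4 hlt
  have hf : Nat.card {Q : Sylow 11 G // t • Q = Q} = 12 := by
    generalize Nat.card {Q : Sylow 11 G // t • Q = Q} = f at h1 h4 hlt
    omega
  have hle : Nat.card {y : G // IsConj t y ∧ y ∈ N} ≤ 4 := by
    refine le_trans ?_ (card_elements_le P hP hC (m := 2) (by norm_num))
    refine Nat.card_le_card_of_injective (fun y => ⟨y.1, ?_, pow_conj_eq_one y.2.1
      (hto ▸ pow_orderOf_eq_one t)⟩) (fun a b hab => Subtype.ext (congrArg (fun z => z.1) hab))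
    exact conj_mem_centralizer P hP (by rw [hn, hf]; norm_num) y.2.1 y.2.2
  have hpos : 0 < Nat.card {y : G // IsConj t y ∧ y ∈ N} :=
    haveI : Nonempty {y : G // IsConj t y ∧ y ∈ N} := ⟨⟨t, IsConj.refl t, centralizer_le_normalizer _ ht⟩⟩
    Nat.card_pos
  have hfix := FixedPoints.card_fixed_mul P t
  rw [hf, ← hNdef, hN] at hfix
  set H := centralizer ({t} : Set G) with hH
  have hcd : Nat.card H ∣ 4928 := h ▸ card_subgroup_dvd_card _
  have hH352 : Nat.card H = 352 := by
    generalize Nat.card H = c at hcd hfix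
    generalize Nat.card {y : G // IsConj t y ∧ y ∈ N} = j at hle hpos hfix
    have key2 : ∀ j ∈ [1, 2, 3, 4], 1056 % j = 0 → 1056 / j ∣ 4928 → 1056 / j = 352 := by
      decide +kernel
    have he : 1056 = c * j := by omega
    have := key2 j (by simp; omega) (by rw [he, Nat.mul_mod_left])
      (by rwa [he, Nat.mul_div_cancel _ hpos])
    rwa [he, Nat.mul_div_cancel _ hpos] at this
  have hPH : (P : Subgroup G) ≤ H := fun z hz =>
    mem_centralizer_singleton_iff.2 (mem_centralizer_iff.1 ht z hz)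
  have hr := FixedPoints.relIndex_normalizer_mod P hPH
  have hmul := Order2520.card_inf_mul N H
  rw [hH352] at hmul
  have hI : Nat.card ↥(H ⊓ N) ∣ 88 := by
    have := card_dvd_of_le (inf_le_right : H ⊓ N ≤ N)
    rwa [hN] at this
  have hI22 : 22 ∣ Nat.card ↥(H ⊓ N) := by
    refine (show Nat.Coprime 11 2 by norm_num).mul_dvd_of_dvd_of_dvd ?_ ?_
    · exact hP ▸ card_dvd_of_le (le_inf hPH le_normalizer)
    · have hd := orderOf_dvd_natCard (⟨t, ⟨mem_centralizer_singleton_iff.2 rfl,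
        centralizer_le_normalizer _ ht⟩⟩ : ↥(H ⊓ N))
      rwa [← Subgroup.orderOf_coe, show orderOf (_ : G) = 2 from hto] at hd
  rw [← hNdef] at hr
  generalize N.relIndex H = r at hr hmul
  generalize Nat.card ↥(H ⊓ N) = i at hI hI22 hmul
  have key3 : ∀ i ∈ List.range 89, i ∣ 88 → 22 ∣ i → (352 / i) % 11 ≠ 1 := by decide +kernel
  refine key3 i (List.mem_range.2 (Nat.lt_succ_of_le (Nat.le_of_dvd (by norm_num) hI))) hI hI22 ?_
  rw [← hmul, Nat.mul_div_cancel_left _ (Nat.pos_of_dvd_of_pos hI (by norm_num))]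
  exact hr

/-- An involution of `C(P)` fixing `22` Sylow `7`-subgroups would have `11` dividing the number of
its conjugates in `N(P)`. -/
theorem false_of_22 (hG : ¬ IsMulCommutative G) [Fact (Nat.Prime 7)] {k e : ℕ} (P : Sylow 7 G)
    (hP : Nat.card (P : Subgroup G) = 7) (hn : Nat.card (Sylow 7 G) = 50)
    (hC : Nat.card (centralizer ((P : Subgroup G) : Set G)) = 7 * k)
    (hN : Nat.card (normalizer ((P : Subgroup G) : Set G)) = 7 * (k * e))
    (hk2 : 2 ∣ k) (hk : k < 11) (h11 : ¬ 11 ∣ Nat.card G) : False := by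
  classical
  haveI : Fact (Nat.Prime 2) := ⟨Nat.prime_two⟩
  set C := centralizer ((P : Subgroup G) : Set G) with hCdef
  obtain ⟨⟨t, ht⟩, hto⟩ := exists_prime_orderOf_dvd_card' (G := C) 2 (hC.symm ▸ hk2.mul_left 7)
  rw [Subgroup.orderOf_mk] at hto
  have ht1 : t ≠ 1 := fun e => by rw [e, orderOf_one] at hto; norm_num at hto
  have hpG : 7 ∣ Nat.card G := hP ▸ card_subgroup_dvd_card (P : Subgroup G)
  have h1 := fix_mod_one P hP ht
  have h4 := FixedPoints.four_dvd_moved hG (α := Sylow 7 G) (show t * t = 1 by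
    rw [← pow_two, ← hto, pow_orderOf_eq_one])
  have hlt := fix_lt (p := 7) hG hpG ht1
  rw [hn] at h4 hlt
  have hf : Nat.card {Q : Sylow 7 G // t • Q = Q} = 22 := by
    generalize Nat.card {Q : Sylow 7 G // t • Q = Q} = f at h1 h4 hlt
    omega
  have hle : Nat.card {y : G // IsConj t y ∧ y ∈ normalizer ((P : Subgroup G) : Set G)} ≤ k := by
    refine le_trans ?_ (card_elements_le P hP hC (m := 2) (by norm_num))
    refine Nat.card_le_card_of_injective (fun y => ⟨y.1, ?_, pow_conj_eq_one y.2.1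
      (hto ▸ pow_orderOf_eq_one t)⟩) (fun a b hab => Subtype.ext (congrArg (fun z => z.1) hab))
    exact conj_mem_centralizer P hP (by rw [hn, hf]; norm_num) y.2.1 y.2.2
  have hpos : 0 < Nat.card {y : G // IsConj t y ∧ y ∈ normalizer ((P : Subgroup G) : Set G)} :=
    haveI : Nonempty {y : G // IsConj t y ∧ y ∈ normalizer ((P : Subgroup G) : Set G)} :=
      ⟨⟨t, IsConj.refl t, centralizer_le_normalizer _ ht⟩⟩
    Nat.card_pos
  have hfix := FixedPoints.card_fixed_mul P t
  rw [hf, hN] at hfix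
  have hd : 11 ∣ Nat.card (centralizer ({t} : Set G)) *
      Nat.card {y : G // IsConj t y ∧ y ∈ normalizer ((P : Subgroup G) : Set G)} :=
    hfix ▸ Dvd.dvd.mul_left (by norm_num) _
  rcases (Nat.Prime.dvd_mul (by norm_num : Nat.Prime 11)).1 hd with h' | h'
  · exact h11 (h'.trans (card_subgroup_dvd_card _))
  · have := Nat.le_of_dvd hpos h'
    omega

theorem ne_4200 : Nat.card G ≠ 4200 := by
  intro h
  have hG : ¬ IsMulCommutative G := Basic.not_comm_of_not_prime (by rw [h]; norm_num)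
  haveI : Fact (Nat.Prime 7) := ⟨by norm_num⟩
  obtain ⟨P, n, e, k, hP, hn, hk, hC, hN, hnm, hem, hpk, hO⟩ :=
    data (p := 7) hG (by norm_num) h (by norm_num) (by norm_num)
  have key : ∀ n ∈ (4200 / 7).divisors, ∀ e ∈ (7 - 1).divisors, Opt 4200 7 n e →
      n = 50 ∧ 2 ∣ 4200 / 7 / (n * e) ∧ 4200 / 7 / (n * e) < 11 := by decide +kernel
  obtain ⟨rfl, hk2, hk11⟩ := key n hnm e hem hO
  exact false_of_22 hG P hP hn hC hN (hk ▸ hk2) (hk ▸ hk11) (h ▸ by norm_num)

theorem ne_5600 : Nat.card G ≠ 5600 := by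
  intro h
  have hG : ¬ IsMulCommutative G := Basic.not_comm_of_not_prime (by rw [h]; norm_num)
  haveI : Fact (Nat.Prime 7) := ⟨by norm_num⟩
  obtain ⟨P, n, e, k, hP, hn, hk, hC, hN, hnm, hem, hpk, hO⟩ :=
    data (p := 7) hG (by norm_num) h (by norm_num) (by norm_num)
  have key : ∀ n ∈ (5600 / 7).divisors, ∀ e ∈ (7 - 1).divisors, Opt 5600 7 n e →
      (n = 50 ∨ n = 400) ∧ e = 2 := by decide +kernel
  obtain ⟨rfl | rfl, rfl⟩ := key n hnm e hem hO <;> norm_num at hk <;> subst hk
  · exact false_of_22 hG P hP hn hC hN (by norm_num) (by norm_num) (h ▸ by norm_num)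
  · exact false_of_equation hG (by norm_num) h (by norm_num) P hP hC hN (by decide +kernel)

theorem ne_5940 : Nat.card G ≠ 5940 := by
  intro h
  classical
  have hG : ¬ IsMulCommutative G := Basic.not_comm_of_not_prime (by rw [h]; norm_num)
  haveI : Fact (Nat.Prime 11) := ⟨by norm_num⟩
  haveI : Fact (Nat.Prime 2) := ⟨Nat.prime_two⟩
  haveI : Fact (Nat.Prime 3) := ⟨by norm_num⟩
  obtain ⟨P, n, e, k, hP, hn, hk, hC, hN, hnm, hem, hpk, hO⟩ :=
    data (p := 11) hG (by norm_num) h (by norm_num) (by norm_num)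
  have key : ∀ n ∈ (5940 / 11).divisors, ∀ e ∈ (11 - 1).divisors, Opt 5940 11 n e →
      n = 45 ∧ e = 2 := by decide +kernel
  obtain ⟨rfl, rfl⟩ := key n hnm e hem hO
  norm_num at hk
  subst hk
  set C := centralizer ((P : Subgroup G) : Set G) with hCdef
  obtain ⟨⟨t, ht⟩, hto⟩ := exists_prime_orderOf_dvd_card' (G := C) 2 (hC.symm ▸ by norm_num)
  rw [Subgroup.orderOf_mk] at hto
  have ht1 : t ≠ 1 := fun e => by rw [e, orderOf_one] at hto; norm_num at hto
  have htt : t * t = 1 := by rw [← pow_two, ← hto, pow_orderOf_eq_one]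
  have hpG : 11 ∣ Nat.card G := h ▸ by norm_num
  have h1 := fix_mod_one P hP ht
  have h4 := FixedPoints.four_dvd_moved hG (α := Sylow 11 G) htt
  have hlt := fix_lt (p := 11) hG hpG ht1
  rw [hn] at h4 hlt
  have hft : Nat.card {Q : Sylow 11 G // t • Q = Q} = 1 := by
    generalize Nat.card {Q : Sylow 11 G // t • Q = Q} = f at h1 h4 hlt
    omega
  -- the Sylow `3`-subgroup of `C(P)` is normal
  obtain ⟨W⟩ : Nonempty (Sylow 3 C) := inferInstance
  have hWc : Nat.card (W : Subgroup C) = 3 := by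
    rw [Basic.card_sylow_eq_pow (a := 1) (m := 22) (by rw [hC]; norm_num) (by norm_num) W, pow_one]
  have hPz : (P : Subgroup G).subgroupOf C ≤ normalizer ((W : Subgroup C) : Set C) := fun z hz =>
    mem_normalizer_iff.2 fun y => by
      have : z * y * z⁻¹ = y := by
        rw [mul_inv_eq_iff_eq_mul]
        exact Subtype.ext (mem_centralizer_iff.1 y.2 z (mem_subgroupOf.1 hz))
      rw [this]
  have hW1 : Nat.card (Sylow 3 C) = 1 := by
    have hmul := Basic.card_normalizer_mul W
    have hd11 := card_dvd_of_le hPz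
    have hd3 := Basic.sylow_dvd_normalizer W
    have hPle : (P : Subgroup G) ≤ C :=
      haveI : IsCyclic (P : Subgroup G) := isCyclic_of_prime_card hP
      le_centralizer _
    rw [Nat.card_congr (subgroupOfEquivOfLe hPle).toEquiv, hP] at hd11
    rw [hWc] at hd3
    have hm := card_sylow_modEq_one 3 C
    rw [Nat.ModEq] at hm
    rw [hC] at hmul
    have h33 := (show Nat.Coprime 11 3 by norm_num).mul_dvd_of_dvd_of_dvd hd11 hd3
    obtain ⟨a, ha⟩ := h33
    rw [ha] at hmul
    generalize Nat.card (Sylow 3 C) = n3 at hm hmul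
    have : a * n3 = 2 := by
      have : 33 * (a * n3) = 33 * 2 := by rw [← mul_assoc]; omega
      omega
    have := Nat.le_of_dvd (by norm_num) (Dvd.intro_left a this)
    interval_cases n3 <;> omega
  obtain ⟨⟨w, hwW⟩, hwo'⟩ := exists_prime_orderOf_dvd_card' (G := (W : Subgroup C)) 3 hWc.symm.dvd
  rw [Subgroup.orderOf_mk] at hwo'
  have hwo : orderOf (w : G) = 3 := (Subgroup.orderOf_coe w).trans hwo'
  have hw1 : (w : G) ≠ 1 := fun e => by rw [e, orderOf_one] at hwo; norm_num at hwo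
  have hwz : zpowers w = (W : Subgroup C) :=
    eq_of_le_of_card_ge (zpowers_le.2 hwW) (by rw [Nat.card_zpowers, hwo', hWc])
  haveI : Subsingleton (Sylow 3 C) := (Nat.card_eq_one_iff_unique.1 hW1).1
  have htW : (⟨t, ht⟩ : C) * w * (⟨t, ht⟩ : C)⁻¹ ∈ zpowers w := by
    rw [hwz]
    exact (Sylow.normal_of_subsingleton W).conj_mem w hwW _
  obtain ⟨i, hi⟩ := mem_zpowers_iff.1 htW
  have hi' : t * (w : G) * t⁻¹ = (w : G) ^ i := by
    have := congrArg Subtype.val hi
    simpa using this.symm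
  have h1' := fix_mod_one P hP w.2
  have h3 := fix_mod_prime (α := Sylow 11 G) hwo
  have hlt' := fix_lt (p := 11) hG hpG hw1
  rw [hn] at h3 hlt'
  set s : Set (Sylow 11 G) := {Q | (w : G) • Q = Q} with hs
  have hstab : ∀ Q ∈ s, t • Q ∈ s := by
    intro Q hQ
    show (w : G) • t • Q = t • Q
    have hQi : (w : G) ^ i • Q = Q := zpow_mem (show (w : G) ∈ stabilizer G Q from hQ) i
    have hwt : (w : G) * t = t * (w : G) ^ i := by
      rw [← hi', ← mul_assoc, ← mul_assoc, htt, one_mul, inv_eq_of_mul_eq_one_right htt]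
    rw [← mul_smul, hwt, mul_smul, hQi]
  have hmod := Order2520.fixed_mod (α := Sylow 11 G) (p := 2) (x := t) (by rw [pow_two, htt]) s hstab
  have hone : Nat.card {Q : Sylow 11 G // Q ∈ s ∧ t • Q = Q} = 1 := by
    refine le_antisymm ?_ ?_
    · rw [← hft]
      exact Nat.card_le_card_of_injective (fun Q => ⟨Q.1, Q.2.2⟩)
        fun a b hab => Subtype.ext (congrArg (fun z => z.1) hab)
    · haveI : Nonempty {Q : Sylow 11 G // Q ∈ s ∧ t • Q = Q} :=
        ⟨⟨P, Sylow.smul_eq_iff_mem_normalizer.2 (centralizer_le_normalizer _ w.2),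
          Sylow.smul_eq_iff_mem_normalizer.2 (centralizer_le_normalizer _ ht)⟩⟩
      exact Nat.card_pos
  rw [hone] at hmod
  change 1 % 2 = Nat.card {Q : Sylow 11 G // (w : G) • Q = Q} % 2 at hmod
  generalize Nat.card {Q : Sylow 11 G // (w : G) • Q = Q} = f at h1' h3 hlt' hmod
  omega

theorem ne_3960 : Nat.card G ≠ 3960 := by
  intro h
  classical
  have hG : ¬ IsMulCommutative G := Basic.not_comm_of_not_prime (by rw [h]; norm_num)
  haveI : Fact (Nat.Prime 11) := ⟨by norm_num⟩
  haveI : Fact (Nat.Prime 2) := ⟨Nat.prime_two⟩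
  obtain ⟨P, n, e, k, hP, hn, hk, hC, hN, hnm, hem, hpk, hO⟩ :=
    data (p := 11) hG (by norm_num) h (by norm_num) (by norm_num)
  have key : ∀ n ∈ (3960 / 11).divisors, ∀ e ∈ (11 - 1).divisors, Opt 3960 11 n e →
      n = 45 ∧ e = 2 := by decide +kernel
  obtain ⟨rfl, rfl⟩ := key n hnm e hem hO
  norm_num at hk
  subst hk
  set C := centralizer ((P : Subgroup G) : Set G) with hCdef
  set N := normalizer ((P : Subgroup G) : Set G) with hNdef
  have hpG : 11 ∣ Nat.card G := h ▸ by norm_num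
  have hCfix : ∀ t ∈ C, orderOf t = 2 → Nat.card {Q : Sylow 11 G // t • Q = Q} = 1 := by
    intro t ht hto
    have ht1 : t ≠ 1 := fun e => by rw [e, orderOf_one] at hto; norm_num at hto
    have h1 := fix_mod_one P hP ht
    have h4 := FixedPoints.four_dvd_moved hG (α := Sylow 11 G) (show t * t = 1 by
      rw [← pow_two, ← hto, pow_orderOf_eq_one])
    have hlt := fix_lt (p := 11) hG hpG ht1
    rw [hn] at h4 hlt
    generalize Nat.card {Q : Sylow 11 G // t • Q = Q} = f at h1 h4 hlt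
    omega
  obtain ⟨Q, hQ⟩ : ∃ Q : Sylow 11 G, Q ≠ P := by
    haveI : Nontrivial (Sylow 11 G) := Finite.one_lt_card_iff_nontrivial.1 (by omega)
    exact exists_ne P
  -- an involution of `N(P)` fixing `Q`
  have hstab : 1 < Nat.card (stabilizer N Q) := by
    by_contra hle
    have h0 := card_mul_index (stabilizer N Q)
    rw [index_stabilizer, hN] at h0
    have horb : Nat.card (orbit N Q) ≤ 45 := hn ▸ Nat.card_le_card_of_injective _ Subtype.val_injective
    rw [Nat.card_coe_set_eq] at horb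
    have hpos : 0 < Nat.card (stabilizer N Q) := Nat.card_pos
    have h1 : Nat.card (stabilizer N Q) = 1 := by omega
    rw [h1] at h0
    omega
  have h2 : 2 ∣ Nat.card (stabilizer N Q) := by
    by_contra h2
    have hd := card_subgroup_dvd_card (stabilizer N Q)
    rw [hN] at hd
    have h11 : ¬ 11 ∣ Nat.card (stabilizer N Q) := by
      intro h11
      obtain ⟨⟨⟨z, hzN⟩, hzQ⟩, hzo⟩ := exists_prime_orderOf_dvd_card' (G := stabilizer N Q) 11 h11
      rw [Subgroup.orderOf_mk, Subgroup.orderOf_mk] at hzo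
      have hz1 : z ≠ 1 := fun e => by rw [e, orderOf_one] at hzo; norm_num at hzo
      obtain ⟨P', hzP', -⟩ := Order2520.exists_sylow (p := 11) (fun R => by
        rw [R.card_eq_multiplicity, ← P.card_eq_multiplicity, hP]) hzo
      have hP'c : Nat.card (P' : Subgroup G) = 11 := by
        rw [P'.card_eq_multiplicity, ← P.card_eq_multiplicity, hP]
      have e1 : P = P' := Order2520.eq_of_fixed hP'c hzP' hz1
        (Sylow.smul_eq_iff_mem_normalizer.2 hzN)
      have e2 : Q = P' := Order2520.eq_of_fixed hP'c hzP' hz1 hzQ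
      exact hQ (e2.trans e1.symm)
    generalize Nat.card (stabilizer N Q) = s at hstab hd h2 h11
    have key2 : ∀ s ∈ List.range 89, 1 < s → s ∣ 88 → ¬ 2 ∣ s → 11 ∣ s := by decide +kernel
    exact h11 (key2 s (List.mem_range.2 (Nat.lt_succ_of_le (Nat.le_of_dvd (by norm_num) hd)))
      hstab hd h2)
  obtain ⟨⟨⟨u, huN⟩, huQ⟩, huo⟩ := exists_prime_orderOf_dvd_card' (G := stabilizer N Q) 2 h2
  rw [Subgroup.orderOf_mk, Subgroup.orderOf_mk] at huo
  have hu2 : 2 ≤ Nat.card {R : Sylow 11 G // u • R = R} := by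
    refine Finite.one_lt_card_iff_nontrivial.2 ⟨⟨P, Sylow.smul_eq_iff_mem_normalizer.2 huN⟩, ⟨Q, huQ⟩,
      fun e => hQ (congrArg Subtype.val e).symm⟩
  have huC : u ∉ C := fun hC' => by
    have := hCfix u hC' huo
    omega
  have hidx : ¬ 2 ∣ N.index := by
    have := card_mul_index N
    rw [hN, h] at this
    omega
  obtain ⟨T, hTN, huT⟩ := exists_sylow_le_mem N hidx huN huo
  have hrel : ¬ 4 ∣ C.relIndex N := by
    have := relIndex_mul_relIndex ⊥ C N bot_le (centralizer_le_normalizer _)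
    rw [relIndex_bot_left, relIndex_bot_left, hC, hN] at this
    omega
  obtain ⟨v, hv, hvC⟩ := exists_conj_centralizer hG P T hTN hrel huT huo huC
  have hvo : orderOf v = 2 := by
    obtain ⟨g, rfl⟩ := isConj_iff.1 hv
    exact (orderOf_injective (MulAut.conj g).toMonoidHom (MulAut.conj g).injective u).trans huo
  have := hCfix v hvC hvo
  rw [← Order2520.card_fixed_conj hv] at this
  omega

end Cfsg.Agent.SmallSimple.Orders6232
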