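import Cfsg.Agent.Lib.SmallSimple.Orders6232.Tools

/-!
# The orders 4536, 5376, 5460 and 5880
-/

set_option autoImplicit false
set_option linter.style.haveILetI false

namespace Cfsg.Agent.SmallSimple.Orders6232

open Subgroup MulAction

variable {G : Type*} [Group G] [Finite G] [IsSimpleGroup G]

set_option maxHeartbeats 800000 in
theorem ne_4536 : Nat.card G ≠ 4536 := by
  intro h
  classical
  have hG : ¬ IsMulCommutative G := Basic.not_comm_of_not_prime (by rw [h]; norm_num)
  haveI : Fact (Nat.Prime 7) := ⟨by norm_num⟩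
  haveI : Fact (Nat.Prime 3) := ⟨by norm_num⟩
  haveI : Fact (Nat.Prime 2) := ⟨Nat.prime_two⟩
  obtain ⟨P, n, e, k, hP, hn, hk, hC, hN, hnm, hem, hpk, hO⟩ :=
    data (p := 7) hG (by norm_num) h (by norm_num) (by norm_num)
  have key : ∀ n ∈ (4536 / 7).divisors, ∀ e ∈ (7 - 1).divisors, Opt 4536 7 n e →
      (n = 36 ∧ 3 ∣ 4536 / 7 / (n * e) ∧ 4536 / 7 / (n * e) ≤ 9) ∨ (n = 162 ∧ e = 2) := by
    decide +kernel
  have hnN : n * (7 * (k * e)) = 4536 := by
    rw [← hN, ← hn, mul_comm, Basic.card_normalizer_mul, h]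
  have hpG : 7 ∣ Nat.card G := h ▸ by norm_num
  set C := centralizer ((P : Subgroup G) : Set G) with hCdef
  set N := normalizer ((P : Subgroup G) : Set G) with hNdef
  rcases key n hnm e hem hO with ⟨rfl, hk3, hk9⟩ | ⟨rfl, rfl⟩
  · rw [← hk] at hk3 hk9
    have hke : 7 * (k * e) = 126 := by omega
    rw [hke] at hN
    obtain ⟨⟨w, hw⟩, hwo⟩ := exists_prime_orderOf_dvd_card' (G := C) 3 (hC.symm ▸ hk3.mul_left 7)
    rw [Subgroup.orderOf_mk] at hwo
    have hw1 : w ≠ 1 := fun e => by rw [e, orderOf_one] at hwo; norm_num at hwo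
    have h1 := fix_mod_one P hP hw
    have h3 := fix_mod_prime (α := Sylow 7 G) hwo
    have hlt := fix_lt (p := 7) hG hpG hw1
    rw [hn] at h3 hlt
    have hf : Nat.card {Q : Sylow 7 G // w • Q = Q} = 15 := by
      generalize Nat.card {Q : Sylow 7 G // w • Q = Q} = f at h1 h3 hlt
      omega
    have hle : Nat.card {y : G // IsConj w y ∧ y ∈ N} ≤ 9 := by
      refine le_trans ?_ ((card_elements_le P hP hC (m := 3) (by norm_num)).trans hk9)
      refine Nat.card_le_card_of_injective (fun y => ⟨y.1, ?_, pow_conj_eq_one y.2.1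
        (hwo ▸ pow_orderOf_eq_one w)⟩) (fun a b hab => Subtype.ext (congrArg (fun z => z.1) hab))
      exact conj_mem_centralizer P hP (by rw [hn, hf]; norm_num) y.2.1 y.2.2
    have hpos : 0 < Nat.card {y : G // IsConj w y ∧ y ∈ N} :=
      haveI : Nonempty {y : G // IsConj w y ∧ y ∈ N} :=
        ⟨⟨w, IsConj.refl w, centralizer_le_normalizer _ hw⟩⟩
      Nat.card_pos
    have hfix := FixedPoints.card_fixed_mul P w
    rw [hf, ← hNdef, hN] at hfix
    set H := centralizer ({w} : Set G) with hH
    have hcd : Nat.card H ∣ 4536 := h ▸ card_subgroup_dvd_card _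
    have hH378 : Nat.card H = 378 := by
      generalize Nat.card H = c at hcd hfix
      generalize Nat.card {y : G // IsConj w y ∧ y ∈ N} = j at hle hpos hfix
      have key2 : ∀ j ∈ List.range 10, 0 < j → 1890 % j = 0 → 1890 / j ∣ 4536 →
          1890 / j = 378 := by decide +kernel
      have he : 1890 = c * j := by omega
      have := key2 j (List.mem_range.2 (by omega)) hpos (by rw [he, Nat.mul_mod_left])
        (by rwa [he, Nat.mul_div_cancel _ hpos])
      rwa [he, Nat.mul_div_cancel _ hpos] at this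
    have hPH : (P : Subgroup G) ≤ H := fun z hz =>
      mem_centralizer_singleton_iff.2 (mem_centralizer_iff.1 hw z hz)
    have hr := FixedPoints.relIndex_normalizer_mod P hPH
    have hmul := Order2520.card_inf_mul N H
    rw [hH378] at hmul
    have hI : Nat.card ↥(H ⊓ N) ∣ 126 := by
      have := card_dvd_of_le (inf_le_right : H ⊓ N ≤ N)
      rwa [hN] at this
    have hI21 : 21 ∣ Nat.card ↥(H ⊓ N) := by
      refine (show Nat.Coprime 7 3 by norm_num).mul_dvd_of_dvd_of_dvd ?_ ?_
      · exact hP ▸ card_dvd_of_le (le_inf hPH le_normalizer)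
      · have hd := orderOf_dvd_natCard (⟨w, ⟨mem_centralizer_singleton_iff.2 rfl,
          centralizer_le_normalizer _ hw⟩⟩ : ↥(H ⊓ N))
        rwa [← Subgroup.orderOf_coe, show orderOf (_ : G) = 3 from hwo] at hd
    rw [← hNdef] at hr
    generalize N.relIndex H = r at hr hmul
    generalize Nat.card ↥(H ⊓ N) = i at hI hI21 hmul
    have key3 : ∀ i ∈ List.range 127, i ∣ 126 → 21 ∣ i → (378 / i) % 7 ≠ 1 := by decide +kernel
    refine key3 i (List.mem_range.2 (Nat.lt_succ_of_le (Nat.le_of_dvd (by norm_num) hI))) hI hI21 ?_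
    rw [← hmul, Nat.mul_div_cancel_left _ (Nat.pos_of_dvd_of_pos hI (by norm_num))]
    exact hr
  · norm_num at hk
    subst hk
    obtain ⟨t, ht, hNt⟩ := Orders1092.normalizer_le_centralizer_involution (by norm_num) P hP hC
    have ht1 : t ≠ 1 := fun e => by rw [e, orderOf_one] at ht; norm_num at ht
    have htC : t ∈ C := mem_centralizer_iff.2 fun z hz =>
      mem_centralizer_singleton_iff.1 (hNt (le_normalizer hz))
    have h1 := fix_mod_one P hP htC
    have h4 := FixedPoints.four_dvd_moved hG (α := Sylow 7 G) (show t * t = 1 by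
      rw [← pow_two, ← ht, pow_orderOf_eq_one])
    rw [hn] at h4
    -- the conjugates of `t` in `N(P)` are few
    have hle : Nat.card {y : G // IsConj t y ∧ y ∈ N} ≤ 28 := by
      rw [show 28 = Nat.card N by rw [hN]]
      exact Nat.card_le_card_of_injective (fun y => (⟨y.1, y.2.2⟩ : N))
        fun a b hab => Subtype.ext (congrArg (fun z : N => (z : G)) hab)
    have hr := FixedPoints.relIndex_normalizer_mod P (le_normalizer.trans hNt)
    have hmul := relIndex_mul_relIndex ⊥ _ _ bot_le hNt
    rw [relIndex_bot_left, relIndex_bot_left, hN, ← hNdef] at hmul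
    have hcd : Nat.card (centralizer ({t} : Set G)) ∣ 4536 := h ▸ card_subgroup_dvd_card _
    have hfix := FixedPoints.card_fixed_mul P t
    rw [← hNdef, hN] at hfix
    have hne : Nat.card (centralizer ({t} : Set G)) ≠ 4536 := fun e =>
      Orders1092.centralizer_ne_top hG ht1 (eq_top_of_card_eq _ (e.trans h.symm))
    have hpos : 0 < Nat.card {y : G // IsConj t y ∧ y ∈ N} :=
      haveI : Nonempty {y : G // IsConj t y ∧ y ∈ N} :=
        ⟨⟨t, IsConj.refl t, centralizer_le_normalizer _ htC⟩⟩
      Nat.card_pos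
    have hj : Nat.card {y : G // IsConj t y ∧ y ∈ N} ≠ 22 := by
      intro h22
      -- twenty-two of the twenty-eight elements of `N(P)` would be involutions
      have hdisj : ∀ a : {y : G // IsConj t y ∧ y ∈ N}, a.1 ∉ (P : Subgroup G) ∧
          (a.1 * t ∈ (P : Subgroup G) → a.1 = t) := by
        intro a
        have hao : orderOf a.1 = 2 := by
          obtain ⟨g, hg⟩ := isConj_iff.1 a.2.1
          rw [← hg]
          exact (orderOf_injective (MulAut.conj g).toMonoidHom (MulAut.conj g).injective t).trans ht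
        refine ⟨fun hm => ?_, fun hm => ?_⟩
        · have := orderOf_dvd_natCard (⟨a.1, hm⟩ : (P : Subgroup G))
          rw [Subgroup.orderOf_mk, hao, hP] at this
          norm_num at this
        · have htt : t * t = 1 := by rw [← pow_two, ← ht, pow_orderOf_eq_one]
          have hat : a.1 * t = t * a.1 := mem_centralizer_singleton_iff.1 (hNt a.2.2)
          have h2 : (a.1 * t) ^ 2 = 1 := by
            rw [Commute.mul_pow hat, pow_two t, htt, mul_one, ← hao, pow_orderOf_eq_one]
          have h7 : (a.1 * t) ^ 7 = 1 :=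
            congrArg Subtype.val ((congrArg ((⟨_, hm⟩ : (P : Subgroup G)) ^ ·) hP.symm).trans
              pow_card_eq_one' : (⟨_, hm⟩ : (P : Subgroup G)) ^ 7 = 1)
          have h1 : a.1 * t = 1 := by
            have := pow_gcd_eq_one.2 ⟨h2, h7⟩
            simpa using this
          rw [eq_inv_of_mul_eq_one_left h1, inv_eq_of_mul_eq_one_right htt]
      -- the two cosets `P` and `P t` hold at most one conjugate
      have hPN : (P : Subgroup G) ≤ N := le_normalizer
      let S : Set G := {y | IsConj t y ∧ y ∈ N}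
      let A : Set G := ((P : Subgroup G) : Set G)
      let B : Set G := (fun y => y * t) '' A
      have hA : A.ncard = 7 := by rw [← Nat.card_coe_set_eq]; exact hP
      have hB : B.ncard = 7 := by rw [Set.ncard_image_of_injective _ (mul_left_injective t), hA]
      have htt : t * t = 1 := by rw [← pow_two, ← ht, pow_orderOf_eq_one]
      have hSA : Disjoint S A := Set.disjoint_left.2 fun y hy hyA => (hdisj ⟨y, hy⟩).1 hyA
      have hSB : S ∩ B ⊆ {t} := by
        rintro y ⟨hy, z, hz, rfl⟩
        refine (hdisj ⟨z * t, hy⟩).2 ?_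
        rw [mul_assoc, htt, mul_one]
        exact hz
      have hBA : Disjoint B A := Set.disjoint_left.2 fun y hyB hyA => by
        obtain ⟨z, hz, rfl⟩ := hyB
        have : t ∈ (P : Subgroup G) := by simpa using mul_mem (inv_mem (show z ∈ (P : Subgroup G) from hz)) hyA
        have h2 := orderOf_dvd_natCard (⟨t, this⟩ : (P : Subgroup G))
        rw [Subgroup.orderOf_mk, ht, hP] at h2
        norm_num at h2
      have hsub : S ∪ (A ∪ B) ⊆ (N : Set G) := by
        rintro y (hy | hy | ⟨z, hz, rfl⟩)
        · exact hy.2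
        · exact hPN hy
        · exact mul_mem (hPN hz) (centralizer_le_normalizer _ htC)
      have hle28 := Set.ncard_le_ncard hsub (Set.toFinite _)
      have hN28 : (N : Set G).ncard = 28 := by rw [← Nat.card_coe_set_eq]; exact hN
      have e1 := Set.ncard_union_add_ncard_inter S (A ∪ B)
      have e2 := Set.ncard_union_add_ncard_inter A B
      rw [Set.disjoint_iff_inter_eq_empty.1 hBA.symm, Set.ncard_empty, hA, hB] at e2
      have hi : (S ∩ (A ∪ B)).ncard ≤ 1 := by
        refine le_trans (Set.ncard_le_ncard ?_ (Set.toFinite _)) (Set.ncard_singleton t).le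
        rintro y ⟨hy, hy' | hy'⟩
        · exact absurd hy' (Set.disjoint_left.1 hSA hy)
        · exact hSB ⟨hy, hy'⟩
      have hS : S.ncard = 22 := by rw [← Nat.card_coe_set_eq]; exact h22
      omega
    generalize (N.relIndex (centralizer ({t} : Set G))) = r at hr hmul
    generalize Nat.card {y : G // IsConj t y ∧ y ∈ N} = j at hle hpos hj hfix
    generalize Nat.card (centralizer ({t} : Set G)) = c at hcd hne hmul hfix
    generalize Nat.card {Q : Sylow 7 G // t • Q = Q} = f at h1 h4 hfix
    have hr1 : r = 1 := by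
      have key2 : ∀ r ∈ List.range 163, r % 7 = 1 → r ∣ 162 → r = 1 ∨ r = 162 := by decide +kernel
      have hrd : r ∣ 162 := by
        have : 28 * r ∣ 28 * 162 := by rw [show 28 * r = c by omega]; exact hcd
        exact Nat.dvd_of_mul_dvd_mul_left (by norm_num) this
      rcases key2 r (List.mem_range.2 (Nat.lt_succ_of_le (Nat.le_of_dvd (by norm_num) hrd))) hr hrd
        with rfl | rfl <;> omega
    subst hr1
    have hfj : f = j := by
      have : 28 * f = 28 * j := by rw [show c = 28 by omega] at hfix; omega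
      omega
    omega

/-- A subgroup of index fourteen forbids involutions commuting with elements of order seven. -/
theorem no_involution_of_index_14 (hG : ¬ IsMulCommutative G) (H : Subgroup G) (hH : H.index = 14)
    (h7 : ¬ 7 ∣ Nat.card H) {x t : G} (hx : orderOf x = 7) (ht : orderOf t = 2)
    (hc : x * t = t * x) : False := by
  classical
  haveI : Fact (Nat.Prime 7) := ⟨by norm_num⟩
  have hHtop : H ≠ ⊤ := fun e => by rw [e, index_top] at hH; norm_num at hH
  have hcard : Nat.card (G ⧸ H) = 14 := hH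
  set s : Set (G ⧸ H) := {a | t • a = a}
  have hmod := Order2520.fixed_mod (α := G ⧸ H) (p := 7) (x := x) (hx ▸ pow_orderOf_eq_one x) s
    (fun a (ha : t • a = a) => by
      show t • (x • a) = x • a
      rw [← mul_smul, ← hc, mul_smul, ha])
  have h0 : Nat.card {a : G ⧸ H // a ∈ s ∧ x • a = a} = 0 := by
    refine Nat.card_eq_zero.2 (Or.inl ⟨fun a => ?_⟩)
    obtain ⟨g, hg⟩ := QuotientGroup.mk_surjective a.1
    have hfix : x • (QuotientGroup.mk g : G ⧸ H) = QuotientGroup.mk g := by rw [hg]; exact a.2.2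
    have hm : g⁻¹ * x * g ∈ H := by
      have := QuotientGroup.eq.1 hfix.symm
      simpa [smul_eq_mul, mul_assoc] using this
    have ho : orderOf (g⁻¹ * x * g) = 7 := by
      rw [← hx]
      simpa using orderOf_injective (MulAut.conj g⁻¹).toMonoidHom (MulAut.conj g⁻¹).injective x
    refine h7 (ho ▸ ?_)
    have := orderOf_dvd_natCard (⟨_, hm⟩ : H)
    rwa [Subgroup.orderOf_mk] at this
  rw [h0] at hmod
  have h4 := FixedPoints.four_dvd_moved hG (α := G ⧸ H) (show t * t = 1 by
    rw [← pow_two, ← ht, pow_orderOf_eq_one])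
  rw [hcard] at h4
  have hle : Nat.card s ≤ 14 := hcard ▸ Nat.card_le_card_of_injective _ Subtype.val_injective
  have hne : Nat.card s ≠ 14 := fun e => by
    have ht1 : t = 1 := Basic.toPermHom_injective H hHtop (Equiv.ext fun a => by
      obtain ⟨b, rfl⟩ := ((Nat.bijective_iff_injective_and_card (Subtype.val : s → G ⧸ H)).2
        ⟨Subtype.val_injective, e.trans hcard.symm⟩).2 a
      rw [map_one]
      exact b.2)
    rw [ht1, orderOf_one] at ht
    norm_num at ht
  change 4 ∣ 14 - Nat.card s at h4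
  omega

theorem exists_index_14 (h : Nat.card G = 5376) : ∃ H : Subgroup G, H.index = 14 := by
  classical
  have hG : ¬ IsMulCommutative G := Basic.not_comm_of_not_prime (by rw [h]; norm_num)
  haveI : Fact (Nat.Prime 2) := ⟨Nat.prime_two⟩
  have hn : Nat.card (Sylow 2 G) = 21 := by
    obtain ⟨hd, -, h1, hf⟩ := Basic.sylow_count (p := 2) hG (h ▸ by norm_num) (a := 8) (m := 21)
      (by rw [h]; norm_num) (by norm_num)
    rw [h] at hf
    have key : ∀ n ∈ Nat.divisors 21, 1 < n → 10752 ∣ n.factorial → n = 21 := by decide +kernel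
    exact key _ (Nat.mem_divisors.2 ⟨hd, by norm_num⟩) h1 hf
  obtain ⟨P₀, R₀, hne₀, hi₀⟩ := Cfsg.Agent.S0985.result (G := G) 2 3 (by rw [hn]; decide)
  let idx : Sylow 2 G × Sylow 2 G → ℕ := fun q =>
    ((q.2 : Subgroup G).subgroupOf (q.1 : Subgroup G)).index
  haveI := Fintype.ofFinite (Sylow 2 G)
  obtain ⟨⟨P, R⟩, hPRmem, hmin⟩ := Finset.exists_min_image
    (Finset.univ.filter fun q : Sylow 2 G × Sylow 2 G => q.1 ≠ q.2) idx
    ⟨(P₀, R₀), by simp [hne₀]⟩
  have hPR : P ≠ R := by simpa using hPRmem
  have hi : idx (P, R) ≤ 4 := (hmin (P₀, R₀) (by simp [hne₀])).trans hi₀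
  have hcS : ∀ S : Sylow 2 G, Nat.card (S : Subgroup G) = 256 := fun S => by
    rw [Basic.card_sylow_eq_pow (a := 8) (m := 21) (by rw [h]; norm_num) (by norm_num) S]; norm_num
  set D := (P : Subgroup G) ⊓ (R : Subgroup G) with hD
  have hidx : ∀ S T : Sylow 2 G, idx (S, T) * Nat.card ↥((S : Subgroup G) ⊓ (T : Subgroup G)) = 256 := by
    intro S T
    rw [← hcS S, ← Order2520.card_inf_mul (T : Subgroup G) (S : Subgroup G), mul_comm]
    rfl
  have hDlt : ∀ S : Sylow 2 G, D ≤ (S : Subgroup G) →
      D < (S : Subgroup G) ⊓ normalizer (D : Set G) := by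
    intro S hDS
    refine lt_of_le_of_ne (le_inf hDS le_normalizer) fun he => ?_
    haveI : Group.IsNilpotent (S : Subgroup G) := S.2.isNilpotent
    have hlt : D.subgroupOf (S : Subgroup G) < ⊤ := by
      refine lt_top_iff_ne_top.2 fun e => hPR ?_
      have hSD : (S : Subgroup G) ≤ D := subgroupOf_eq_top.1 e
      have e1 := eq_of_le_of_card_ge (hSD.trans inf_le_left) ((hcS P).trans (hcS S).symm).le
      have e2 := eq_of_le_of_card_ge (hSD.trans inf_le_right) ((hcS R).trans (hcS S).symm).le
      exact Sylow.ext (e1.symm.trans e2)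
    have := Group.normalizerCondition_of_isNilpotent (G := (S : Subgroup G)) _ hlt
    refine this.not_ge fun y hy => ?_
    rw [mem_subgroupOf]
    rw [he]
    refine ⟨y.2, mem_normalizer_iff.2 fun z => ?_⟩
    by_cases hz : z ∈ (S : Subgroup G)
    · have h2 := mem_normalizer_iff.1 hy ⟨z, hz⟩
      simpa only [mem_subgroupOf, Subgroup.coe_mul, InvMemClass.coe_inv] using h2
    · refine iff_of_false (fun h' => hz (hDS h')) (fun h' => hz ?_)
      have := mul_mem (mul_mem (inv_mem y.2) (hDS h')) y.2
      simpa [mul_assoc] using this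
  set H := normalizer (D : Set G) with hHdef
  have hDcard : 64 ≤ Nat.card D := by
    have := hidx P R
    rw [← hD] at this
    by_contra hlt
    have := Nat.mul_le_mul hi (Nat.le_of_lt_succ (show Nat.card D < 63 + 1 by omega))
    omega
  have hPH : 128 ∣ Nat.card ↥((P : Subgroup G) ⊓ H) := by
    have hd : Nat.card ↥((P : Subgroup G) ⊓ H) ∣ 256 := hcS P ▸ card_dvd_of_le inf_le_left
    have hd' : Nat.card D ∣ 256 := hcS P ▸ card_dvd_of_le inf_le_left
    have hgt : Nat.card D < Nat.card ↥((P : Subgroup G) ⊓ H) := by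
      refine lt_of_le_of_ne (Nat.card_le_card_of_injective _ (Subgroup.inclusion_injective
        (hDlt P inf_le_left).le)) fun e => (hDlt P inf_le_left).ne ?_
      exact eq_of_le_of_card_ge (hDlt P inf_le_left).le e.ge
    generalize Nat.card ↥((P : Subgroup G) ⊓ H) = a at hd hgt
    generalize Nat.card D = b at hd' hgt hDcard
    have key : ∀ a ∈ Nat.divisors 256, ∀ b ∈ Nat.divisors 256, b < a → 64 ≤ b → 128 ∣ a := by
      decide +kernel
    exact key a (Nat.mem_divisors.2 ⟨hd, by norm_num⟩) b (Nat.mem_divisors.2 ⟨hd', by norm_num⟩)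
      hgt hDcard
  have hH128 : 128 ∣ Nat.card H := hPH.trans (card_dvd_of_le inf_le_right)
  have hHd : Nat.card H ∣ 5376 := h ▸ card_subgroup_dvd_card _
  have hnp : Nat.card H ≠ 128 ∧ Nat.card H ≠ 256 := by
    have hnot : ¬ IsPGroup 2 H := by
      intro hp
      obtain ⟨S, hS⟩ := hp.exists_le_sylow
      have hstep : ∀ T : Sylow 2 G, D ≤ (T : Subgroup G) →
          Nat.card ↥(D) * idx (P, R) = Nat.card (T : Subgroup G) → T = S := by
        intro T hDT hT
        by_contra hTS
        have hle : D < (T : Subgroup G) ⊓ (S : Subgroup G) :=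
          lt_of_lt_of_le (hDlt T hDT) (inf_le_inf_left _ hS)
        have hlt : Nat.card D < Nat.card ↥((T : Subgroup G) ⊓ (S : Subgroup G)) := by
          refine lt_of_le_of_ne (Nat.card_le_card_of_injective _ (Subgroup.inclusion_injective hle.le))
            fun e => hle.ne ?_
          exact eq_of_le_of_card_ge hle.le e.ge
        have h1 := hidx T S
        have h2 := hmin (T, S) (by simp [hTS])
        rw [hcS T] at hT
        have hpos : 0 < idx (P, R) := Nat.pos_of_ne_zero fun e => by rw [e, mul_zero] at hT; norm_num at hT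
        have := Nat.mul_lt_mul_of_le_of_lt h2 hlt (by omega)
        rw [mul_comm (Nat.card D)] at hT
        omega
      have hPS := hstep P inf_le_left (by rw [hcS, mul_comm, hidx P R])
      have hRS := hstep R inf_le_right (by rw [hcS, mul_comm, hidx P R])
      exact hPR (hPS.trans hRS.symm)
    refine ⟨fun e => hnot (IsPGroup.of_card (n := 7) e), fun e => hnot (IsPGroup.of_card (n := 8) e)⟩
  have hne : H ≠ ⊤ := by
    intro e
    rcases (normalizer_eq_top_iff.1 e).eq_bot_or_eq_top with h' | h'
    · rw [h', card_bot] at hDcard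
      norm_num at hDcard
    · exact Basic.sylow_ne_top hG P (top_le_iff.1 (h' ▸ inf_le_left))
  have hf := Basic.two_mul_card_dvd_factorial hG H hne
  have hsplit := card_mul_index H
  rw [h] at hf hsplit
  refine ⟨H, ?_⟩
  generalize Nat.card H = c at hH128 hHd hnp hsplit
  generalize H.index = i at hf hsplit
  have key : ∀ c ∈ Nat.divisors 5376, 128 ∣ c → c ≠ 128 → c ≠ 256 →
      10752 ∣ (5376 / c).factorial → 5376 / c = 14 := by decide +kernel
  have hci : 5376 / c = i := by
    rw [← hsplit, Nat.mul_div_cancel_left _ (Nat.pos_of_dvd_of_pos hHd (by norm_num))]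
  rw [← hci] at hf ⊢
  exact key c (Nat.mem_divisors.2 ⟨hHd, by norm_num⟩) hH128 hnp.1 hnp.2 hf

theorem ne_5376 : Nat.card G ≠ 5376 := by
  intro h
  have hG : ¬ IsMulCommutative G := Basic.not_comm_of_not_prime (by rw [h]; norm_num)
  haveI : Fact (Nat.Prime 7) := ⟨by norm_num⟩
  haveI : Fact (Nat.Prime 2) := ⟨Nat.prime_two⟩
  obtain ⟨P, n, e, k, hP, hn, hk, hC, hN, hnm, hem, hpk, hO⟩ :=
    data (p := 7) hG (by norm_num) h (by norm_num) (by norm_num)
  have key : ∀ n ∈ (5376 / 7).divisors, ∀ e ∈ (7 - 1).divisors, Opt 5376 7 n e →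
      2 ∣ 5376 / 7 / (n * e) := by decide +kernel
  have h2 := key n hnm e hem hO
  rw [← hk] at h2
  obtain ⟨H, hH⟩ := exists_index_14 h
  have h7 : ¬ 7 ∣ Nat.card H := by
    intro h7
    have := card_mul_index H
    rw [hH, h] at this
    obtain ⟨a, ha⟩ := h7
    omega
  obtain ⟨⟨t, ht⟩, hto⟩ := exists_prime_orderOf_dvd_card'
    (G := centralizer ((P : Subgroup G) : Set G)) 2 (hC.symm ▸ h2.mul_left 7)
  rw [Subgroup.orderOf_mk] at hto
  obtain ⟨x, hx, -, hxo⟩ := Order2520.exists_gen hP
  exact no_involution_of_index_14 hG H hH h7 hxo hto (mem_centralizer_iff.1 ht x hx)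

end Cfsg.Agent.SmallSimple.Orders6232
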