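import Cfsg.Agent.Lib.SmallSimple.Orders6232.Intersection

/-!
# The orders 5460 and 5880
-/

set_option autoImplicit false
set_option linter.style.haveILetI false

namespace Cfsg.Agent.SmallSimple.Orders6232

open Subgroup MulAction

variable {G : Type*} [Group G] [Finite G] [IsSimpleGroup G]

theorem conj_orderOf {a b : G} (h : IsConj a b) : orderOf b = orderOf a := by
  obtain ⟨g, rfl⟩ := isConj_iff.1 h
  exact orderOf_injective (MulAut.conj g).toMonoidHom (MulAut.conj g).injective a

/-- An involution normalising a cyclic group of odd prime order inverts it unless it centralises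
it. -/
theorem inverts {r : ℕ} [Fact r.Prime] {u w : G} (hu : orderOf u = 2) (hw : orderOf w = r)
    (hn : u * w * u⁻¹ ∈ zpowers w) (hne : u * w ≠ w * u) : u * w * u⁻¹ = w⁻¹ := by
  have huu : u * u = 1 := by rw [← pow_two, ← hu, pow_orderOf_eq_one]
  have hui : u⁻¹ = u := inv_eq_of_mul_eq_one_right huu
  obtain ⟨i, hi⟩ := mem_zpowers_iff.1 hn
  have hcomm : Commute (u * w * u⁻¹) w := hi ▸ (Commute.refl w).zpow_left i
  by_contra hinv
  have hz : u * w * u⁻¹ * w ≠ 1 := fun e => hinv (mul_eq_one_iff_eq_inv.1 e)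
  have hzm : u * w * u⁻¹ * w ∈ zpowers w := mul_mem hn (mem_zpowers w)
  have hzu : u * (u * w * u⁻¹ * w) = (u * w * u⁻¹ * w) * u := by
    rw [hcomm.eq, hui]
    calc u * (w * (u * w * u)) = (u * w * u) * (w * u) := by group
      _ = (u * w * u) * w * u := by group
      _ = w * (u * w * u) * u := by rw [show u * w * u * w = w * (u * w * u) by
        have := hcomm.eq; rwa [hui] at this]
  have hle : zpowers w ≤ zpowers (u * w * u⁻¹ * w) := by
    refine (eq_of_le_of_card_ge (zpowers_le.2 hzm) ?_).ge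
    rw [Nat.card_zpowers, Nat.card_zpowers, hw]
    have hd := orderOf_dvd_natCard (⟨_, hzm⟩ : zpowers w)
    rw [Subgroup.orderOf_mk, Nat.card_zpowers, hw] at hd
    rcases (Nat.dvd_prime (Fact.out : r.Prime)).1 hd with h | h
    · exact absurd (orderOf_eq_one_iff.1 h) hz
    · exact h.ge
  obtain ⟨j, hj⟩ := mem_zpowers_iff.1 (hle (mem_zpowers w))
  refine hne ?_
  rw [← hj]
  exact (Commute.zpow_right (show Commute u _ from hzu) j).eq

theorem exists_index_15 (h : Nat.card G = 5880) : ∃ H : Subgroup G, H.index = 15 := by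
  classical
  have hG : ¬ IsMulCommutative G := Basic.not_comm_of_not_prime (by rw [h]; norm_num)
  haveI : Fact (Nat.Prime 7) := ⟨by norm_num⟩
  obtain ⟨hd, hm, h1, hf⟩ := Basic.sylow_count (p := 7) hG (h ▸ by norm_num) (a := 2) (m := 120)
    (by rw [h]; norm_num) (by norm_num)
  rw [h] at hf
  have key : ∀ n ∈ Nat.divisors 120, n % 7 = 1 → 1 < n → 11760 ∣ n.factorial → n = 15 ∨ n = 120 := by
    decide +kernel
  rcases key _ (Nat.mem_divisors.2 ⟨hd, by norm_num⟩) hm h1 hf with hn | hn
  · obtain ⟨P⟩ : Nonempty (Sylow 7 G) := inferInstance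
    exact ⟨_, P.card_eq_index_normalizer.symm.trans hn⟩
  · obtain ⟨P, R, hPR, -, hPH, hRH, hne⟩ := exists_intersection (p := 7) hG (h ▸ by norm_num)
      (by rw [hn]; norm_num)
    set H := normalizer ((((P : Subgroup G) ⊓ (R : Subgroup G) : Subgroup G)) : Set G)
    refine ⟨H, ?_⟩
    have hfH := Basic.two_mul_card_dvd_factorial hG H hne
    have hsplit := card_mul_index H
    rw [h] at hfH hsplit
    haveI : Nontrivial (Sylow 7 H) := ⟨⟨P.subtype hPH, R.subtype hRH,
      fun e => hPR (Sylow.subtype_injective e)⟩⟩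
    have h1' : 1 < Nat.card (Sylow 7 H) := Finite.one_lt_card
    have hm' := card_sylow_modEq_one 7 H
    rw [Nat.ModEq] at hm'
    have h49 : 49 ∣ Nat.card H := by
      have := card_dvd_of_le hPH
      rwa [Basic.card_sylow_eq_pow (a := 2) (m := 120) (by rw [h]; norm_num) (by norm_num) P] at this
    obtain ⟨a, ha⟩ := h49
    have hai : a * H.index = 120 := by
      have : 49 * (a * H.index) = 49 * 120 := by rw [← mul_assoc, ← ha, hsplit]
      omega
    have hna : Nat.card (Sylow 7 H) ∣ a := by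
      have hd' := (P.subtype hPH).card_dvd_index
      have hmul := card_mul_index ((P.subtype hPH : Sylow 7 H) : Subgroup H)
      have hc : Nat.card ((P.subtype hPH : Sylow 7 H) : Subgroup H) = 49 := by
        rw [Sylow.coe_subtype, Nat.card_congr (subgroupOfEquivOfLe hPH).toEquiv,
          Basic.card_sylow_eq_pow (a := 2) (m := 120) (by rw [h]; norm_num) (by norm_num) P]
        norm_num
      rw [hc, ha] at hmul
      rwa [Nat.eq_of_mul_eq_mul_left (by norm_num) hmul] at hd'
    generalize Nat.card (Sylow 7 H) = s at h1' hm' hna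
    generalize H.index = i at hfH hai
    have key2 : ∀ a ∈ Nat.divisors 120, ∀ s ∈ Nat.divisors 120, s ∣ a → 1 < s → s % 7 = 1 →
        11760 ∣ (120 / a).factorial → 120 / a = 15 := by decide +kernel
    have had : a ∣ 120 := ⟨i, hai.symm⟩
    have hia : 120 / a = i := by
      rw [← hai, Nat.mul_div_cancel_left _ (Nat.pos_of_dvd_of_pos had (by norm_num))]
    rw [← hia] at hfH ⊢
    exact key2 a (Nat.mem_divisors.2 ⟨had, by norm_num⟩) s
      (Nat.mem_divisors.2 ⟨hna.trans had, by norm_num⟩) hna h1' hm' hfH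

set_option maxHeartbeats 1000000 in
theorem ne_5880 : Nat.card G ≠ 5880 := by
  intro h
  classical
  have hG : ¬ IsMulCommutative G := Basic.not_comm_of_not_prime (by rw [h]; norm_num)
  haveI : Fact (Nat.Prime 5) := ⟨by norm_num⟩
  haveI : Fact (Nat.Prime 3) := ⟨by norm_num⟩
  haveI : Fact (Nat.Prime 2) := ⟨Nat.prime_two⟩
  obtain ⟨P, n, e, k, hP, hn, hk, hC, hN, hnm, hem, hpk, hO⟩ :=
    data (p := 5) hG (by norm_num) h (by norm_num) (by norm_num)
  have key : ∀ n ∈ (5880 / 5).divisors, ∀ e ∈ (5 - 1).divisors, Opt 5880 5 n e →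
      n = 196 ∧ e = 2 := by decide +kernel
  obtain ⟨rfl, rfl⟩ := key n hnm e hem hO
  norm_num at hk
  subst hk
  haveI : IsCyclic (P : Subgroup G) := isCyclic_of_prime_card hP
  set C := centralizer ((P : Subgroup G) : Set G) with hCdef
  set N := normalizer ((P : Subgroup G) : Set G) with hNdef
  obtain ⟨⟨w, hw⟩, hwo⟩ := exists_prime_orderOf_dvd_card' (G := C) 3 (hC.symm ▸ dvd_mul_left 3 5)
  rw [Subgroup.orderOf_mk] at hwo
  have hw1 : w ≠ 1 := fun e => by rw [e, orderOf_one] at hwo; norm_num at hwo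
  obtain ⟨⟨u, hu⟩, huo⟩ := exists_prime_orderOf_dvd_card' (G := N) 2 (hN.symm ▸ by norm_num)
  rw [Subgroup.orderOf_mk] at huo
  have huC : u ∉ C := fun hm => by
    have := orderOf_dvd_natCard (⟨u, hm⟩ : C)
    rw [Subgroup.orderOf_mk, huo, hC] at this
    norm_num at this
  have hwN : w ∈ N := centralizer_le_normalizer _ hw
  obtain ⟨x, hx, hx1, hxo⟩ := Order2520.exists_gen hP
  -- `u` does not centralise `w`
  have huw : u * w ≠ w * u := by
    intro huw
    have hNw : N ≤ centralizer ({w} : Set G) := by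
      have hCw : C ≤ centralizer ({w} : Set G) := fun z hz => by
        have hmem : z ∈ (P : Subgroup G) ⊔ zpowers w := by
          have hsup : (P : Subgroup G) ⊔ zpowers w = C := by
            refine eq_of_le_of_card_ge (sup_le (le_centralizer _) (zpowers_le.2 hw)) ?_
            rw [hC]
            refine Nat.le_of_dvd Nat.card_pos ((show Nat.Coprime 5 3 by norm_num).mul_dvd_of_dvd_of_dvd
              (hP.symm.dvd.trans (card_dvd_of_le le_sup_left)) ?_)
            have hz := card_dvd_of_le (le_sup_right : zpowers w ≤ (P : Subgroup G) ⊔ zpowers w)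
            rwa [Nat.card_zpowers, hwo] at hz
          rwa [hsup]
        exact (sup_le (fun y hy => mem_centralizer_singleton_iff.2 (mem_centralizer_iff.1 hw y hy))
          (zpowers_le.2 (mem_centralizer_singleton_iff.2 rfl))) hmem
      have hle : C ≤ N ⊓ centralizer ({w} : Set G) := le_inf (centralizer_le_normalizer _) hCw
      have heq : N ⊓ centralizer ({w} : Set G) = N := by
        refine eq_of_le_of_card_ge inf_le_left ?_
        have h15 := card_dvd_of_le hle
        have h30 := card_dvd_of_le (inf_le_left : N ⊓ centralizer ({w} : Set G) ≤ N)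
        rw [hC] at h15
        rw [hN] at h30 ⊢
        have hne : Nat.card ↥(N ⊓ centralizer ({w} : Set G)) ≠ 15 := by
          intro e
          have := orderOf_dvd_natCard (⟨u, hu, mem_centralizer_singleton_iff.2 huw⟩ :
            ↥(N ⊓ centralizer ({w} : Set G)))
          rw [← Subgroup.orderOf_coe, show orderOf (_ : G) = 2 from huo, e] at this
          norm_num at this
        obtain ⟨a, ha⟩ := h15
        rw [ha] at h30 hne ⊢
        have := Nat.le_of_dvd (by norm_num) h30
        rcases Nat.lt_or_ge a 2 with h2 | h2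
        · interval_cases a <;> simp at h30 hne
        · omega
      exact heq.ge.trans inf_le_right
    -- the conjugates of `w` in `N(P)` lie in `C(P)`
    have hpos : 0 < Nat.card {y : G // IsConj w y ∧ y ∈ N} :=
      haveI : Nonempty {y : G // IsConj w y ∧ y ∈ N} := ⟨⟨w, IsConj.refl w, hwN⟩⟩
      Nat.card_pos
    have hle : Nat.card {y : G // IsConj w y ∧ y ∈ N} ≤ 3 := by
      refine le_trans ?_ (card_elements_le P hP hC (m := 3) (by norm_num))
      refine Nat.card_le_card_of_injective (fun y => ⟨y.1, ?_, pow_conj_eq_one y.2.1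
        (hwo ▸ pow_orderOf_eq_one w)⟩) (fun a b hab => Subtype.ext (congrArg (fun z => z.1) hab))
      have h3 : y.1 ^ 3 = 1 := pow_conj_eq_one y.2.1 (hwo ▸ pow_orderOf_eq_one w)
      haveI : (C.subgroupOf N).Normal := by
        refine normal_of_index_eq_two ?_
        have h2 := relIndex_mul_relIndex ⊥ C N bot_le (centralizer_le_normalizer _)
        rw [relIndex_bot_left, relIndex_bot_left, hC, hN] at h2
        show C.relIndex N = 2
        omega
      have hsq : y.1 ^ 2 ∈ C := by
        have h2 : ((⟨y.1, y.2.2⟩ : N) ^ (C.subgroupOf N).index) ∈ C.subgroupOf N :=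
          Subgroup.pow_index_mem _ _
        have hi : (C.subgroupOf N).index = 2 := by
          have h2 := relIndex_mul_relIndex ⊥ C N bot_le (centralizer_le_normalizer _)
          rw [relIndex_bot_left, relIndex_bot_left, hC, hN] at h2
          show C.relIndex N = 2
          omega
        rw [hi] at h2
        exact h2
      have : y.1 = (y.1 ^ 2) ^ 2 := by rw [← pow_mul, show 2 * 2 = 3 + 1 by norm_num, pow_succ, h3, one_mul]
      rw [this]
      exact pow_mem hsq 2
    have h1 := fix_mod_one P hP hw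
    have h3 := fix_mod_prime (α := Sylow 5 G) hwo
    have hlt := fix_lt (p := 5) hG (h ▸ by norm_num) hw1
    rw [hn] at h3 hlt
    have hfix := FixedPoints.card_fixed_mul P w
    rw [← hNdef, hN] at hfix
    obtain ⟨a, ha⟩ := card_dvd_of_le hNw
    rw [hN] at ha
    have had : 30 * a ∣ 5880 := by
      rw [show 30 * a = Nat.card (centralizer ({w} : Set G)) by rw [ha], ← h]
      exact card_subgroup_dvd_card _
    rw [ha] at hfix
    have hf1 : a = 1 := by
      generalize Nat.card {Q : Sylow 5 G // w • Q = Q} = f at h1 h3 hlt hfix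
      generalize Nat.card {y : G // IsConj w y ∧ y ∈ N} = j at hle hpos hfix
      have key2 : ∀ f ∈ List.range 196, f % 5 = 1 → f % 3 = 1 → ∀ j ∈ [1, 2, 3], f % j = 0 →
          30 * (f / j) ∣ 5880 → f / j = 1 := by decide +kernel
      have hfa : f = a * j := by
        have : 30 * f = 30 * (a * j) := by rw [← mul_assoc]; omega
        omega
      have := key2 f (List.mem_range.2 hlt) h1 h3 j (by simp; omega) (by rw [hfa, Nat.mul_mod_left])
        (by rwa [hfa, Nat.mul_div_cancel _ hpos])
      rwa [hfa, Nat.mul_div_cancel _ hpos] at this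
    subst hf1
    have h3c : ∀ Q : Sylow 3 G, Nat.card (Q : Subgroup G) = 3 := fun Q => by
      rw [Basic.card_sylow_eq_pow (a := 1) (m := 1960) (by rw [h]; norm_num) (by norm_num) Q, pow_one]
    obtain ⟨W, hwW, -⟩ := Order2520.exists_sylow h3c hwo
    obtain ⟨e', he', he'1, hNW, -⟩ := Centralize.centralizer_data hG W (h3c W)
    rw [← Order2520.cent_eq (h3c W) hwW hw1, ha] at hNW
    have := Nat.le_of_dvd (by norm_num) he'
    obtain rfl : e' = 2 := by omega
    have hW := Basic.card_normalizer_mul W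
    have hWm := card_sylow_modEq_one 3 G
    rw [Nat.ModEq] at hWm
    rw [hNW, h] at hW
    omega
  have hinvw : u * w * u⁻¹ = w⁻¹ := by
    refine inverts huo hwo (Orders1092.order_unique P hP (by norm_num) hC hw hwo ?_
      (conj_orderOf (isConj_iff.2 ⟨u, rfl⟩) |>.trans hwo)) huw
    refine mem_centralizer_iff.2 fun z hz => ?_
    have hz' : u⁻¹ * z * u ∈ (P : Subgroup G) := (mem_normalizer_iff''.1 hu z).1 hz
    have h2 := mem_centralizer_iff.1 hw _ hz'
    calc z * (u * w * u⁻¹) = u * (u⁻¹ * z * u * w) * u⁻¹ := by group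
      _ = u * (w * (u⁻¹ * z * u)) * u⁻¹ := by rw [h2]
      _ = u * w * u⁻¹ * z := by group
  have hinvx : u * x * u⁻¹ = x⁻¹ := by
    refine inverts huo hxo ?_ fun e => huC ?_
    · rw [Centralize.sylow_le_iff_mem hx hx1 hP]
      exact (mem_normalizer_iff.1 hu x).1 hx
    · rw [hCdef, ← Order2520.cent_eq hP hx hx1]
      exact mem_centralizer_singleton_iff.2 e
  have hxw : Commute x w := mem_centralizer_iff.1 hw x hx
  set y := x * w with hydef
  have hyo : orderOf y = 15 := by
    rw [hydef, hxw.orderOf_mul_eq_mul_orderOf_of_coprime (by rw [hxo, hwo]; norm_num), hxo, hwo]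
  have hy : u * y * u⁻¹ = y⁻¹ := by
    rw [hydef, mul_inv_rev, ← hxw.inv_inv.eq, ← hinvx, ← hinvw]; group
  obtain ⟨H, hH⟩ := exists_index_15 h
  have hHc : Nat.card H = 392 := by
    have := card_mul_index H
    rw [hH, h] at this
    omega
  have hHtop : H ≠ ⊤ := fun e => by rw [e, index_top] at hH; norm_num at hH
  have hcard : Nat.card (G ⧸ H) = 15 := hH
  have hfree : ∀ z ∈ zpowers y, ∀ a : G ⧸ H, z • a = a → z = 1 := by
    intro z hz a hza
    obtain ⟨g, rfl⟩ := QuotientGroup.mk_surjective a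
    have hm : g⁻¹ * z * g ∈ H := by
      have := QuotientGroup.eq.1 hza.symm
      simpa [smul_eq_mul, mul_assoc] using this
    have hd := orderOf_dvd_natCard (⟨_, hm⟩ : H)
    rw [Subgroup.orderOf_mk, hHc, show orderOf (g⁻¹ * z * g) = orderOf z by
      simpa using orderOf_injective (MulAut.conj g⁻¹).toMonoidHom (MulAut.conj g⁻¹).injective z] at hd
    have hd2 := orderOf_dvd_natCard (⟨z, hz⟩ : zpowers y)
    rw [Subgroup.orderOf_mk, Nat.card_zpowers, hyo] at hd2
    exact orderOf_eq_one_iff.1 (Nat.eq_one_of_dvd_coprimes (by norm_num : Nat.Coprime 392 15) hd hd2)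
  have huu : u * u = 1 := by rw [← pow_two, ← huo, pow_orderOf_eq_one]
  have hodd := fix_mod_prime (α := G ⧸ H) huo
  rw [hcard] at hodd
  obtain ⟨⟨a₀, ha₀⟩⟩ : Nonempty {a : G ⧸ H // u • a = a} := (Nat.card_pos_iff.1 (by omega)).1
  have hbij : Function.Bijective (fun z : zpowers y => (z : G) • a₀) := by
    refine (Nat.bijective_iff_injective_and_card _).2 ⟨fun z₁ z₂ hz => ?_, ?_⟩
    · have := hfree ((z₂ : G)⁻¹ * z₁) (mul_mem (inv_mem z₂.2) z₁.2) a₀ (by
        rw [mul_smul]; exact inv_smul_eq_iff.2 hz)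
      exact Subtype.ext (inv_mul_eq_one.1 this).symm
    · rw [Nat.card_zpowers, hyo, hcard]
  have hone : Nat.card {a : G ⧸ H // u • a = a} = 1 := by
    refine Nat.card_eq_one_iff_exists.2 ⟨⟨a₀, ha₀⟩, fun a => Subtype.ext ?_⟩
    obtain ⟨z, hz⟩ := hbij.2 a.1
    obtain ⟨i, hi⟩ := mem_zpowers_iff.1 z.2
    have hzinv : u * (z : G) = (z : G)⁻¹ * u := by
      rw [← hi, ← zpow_neg, ← mul_inv_eq_iff_eq_mul]
      rw [← conj_zpow, hy, inv_zpow, zpow_neg]
    have h2 : ((z : G) * z) • a₀ = a₀ := by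
      have h3 : (z : G)⁻¹ • a₀ = (z : G) • a₀ := by
        calc (z : G)⁻¹ • a₀ = ((z : G)⁻¹ * u) • a₀ := by rw [mul_smul, ha₀]
          _ = u • ((z : G) • a₀) := by rw [← hzinv, mul_smul]
          _ = (z : G) • a₀ := by rw [show (z : G) • a₀ = a.1 from hz]; exact a.2
      rw [mul_smul, ← h3, smul_inv_smul]
    have hz2 := hfree _ (mul_mem z.2 z.2) a₀ h2
    have hz1 : (z : G) = 1 := by
      refine orderOf_eq_one_iff.1 (Nat.eq_one_of_dvd_coprimes (by norm_num : Nat.Coprime 2 15)
        (orderOf_dvd_of_pow_eq_one (by rw [pow_two, hz2])) ?_)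
      rw [← hyo, ← Nat.card_zpowers y, Subgroup.orderOf_coe]
      exact orderOf_dvd_natCard z
    rw [← hz]
    show (z : G) • a₀ = a₀
    rw [hz1, one_smul]
  have h4 := FixedPoints.four_dvd_moved hG (α := G ⧸ H) huu
  rw [hone, hcard] at h4
  norm_num at h4

set_option maxHeartbeats 1000000 in
theorem ne_5460 : Nat.card G ≠ 5460 := by
  intro h
  classical
  have hG : ¬ IsMulCommutative G := Basic.not_comm_of_not_prime (by rw [h]; norm_num)
  haveI : Fact (Nat.Prime 5) := ⟨by norm_num⟩
  haveI : Fact (Nat.Prime 3) := ⟨by norm_num⟩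
  haveI : Fact (Nat.Prime 2) := ⟨Nat.prime_two⟩
  obtain ⟨P, n, e, k, hP, hn, hk, hC, hN, hnm, hem, hpk, hO⟩ :=
    data (p := 5) hG (by norm_num) h (by norm_num) (by norm_num)
  have key : ∀ n ∈ (5460 / 5).divisors, ∀ e ∈ (5 - 1).divisors, Opt 5460 5 n e →
      (n = 91 ∧ e = 2) ∨ (n = 91 ∧ e = 4) ∨ (n = 546 ∧ e = 2) := by decide +kernel
  rcases key n hnm e hem hO with ⟨rfl, rfl⟩ | ⟨rfl, rfl⟩ | ⟨rfl, rfl⟩ <;> norm_num at hk <;> subst hk
  rotate_left
  · -- cyclic Sylow `2`-subgroups
    obtain ⟨⟨u, hu⟩, huo⟩ := exists_prime_orderOf_dvd_card'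
      (G := normalizer ((P : Subgroup G) : Set G)) 2 (hN.symm ▸ by norm_num)
    rw [Subgroup.orderOf_mk] at huo
    obtain ⟨T, hTN, -⟩ := exists_sylow_le_mem _ (by
      have := card_mul_index (normalizer ((P : Subgroup G) : Set G))
      rw [hN, h] at this
      omega) hu huo
    have hT : Nat.card (T : Subgroup G) = 4 := by
      rw [Basic.card_sylow_eq_pow (a := 2) (m := 1365) (by rw [h]; norm_num) (by norm_num) T]; norm_num
    haveI : IsCyclic (T : Subgroup G) := isCyclic_of_le_normalizer P hP hTN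
      (by rw [hT, hC]; norm_num)
    obtain ⟨H, hH⟩ := Cfsg.Agent.Involutions.ThompsonTransfer.exists_index_two_of_isCyclic_sylow
      (h ▸ by decide) T inferInstance
    have := Basic.two_mul_card_dvd_factorial hG H (fun e => by
      rw [e, index_top] at hH; norm_num at hH)
    rw [hH, h] at this
    norm_num at this
  · exact false_of_equation hG (by norm_num) h (by norm_num) P hP hC hN (by decide +kernel)
  haveI : IsCyclic (P : Subgroup G) := isCyclic_of_prime_card hP
  set C := centralizer ((P : Subgroup G) : Set G) with hCdef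
  set N := normalizer ((P : Subgroup G) : Set G) with hNdef
  have hpG : 5 ∣ Nat.card G := h ▸ by norm_num
  -- involutions of `C(P)` fix eleven Sylow subgroups
  have hC11 : ∀ t ∈ C, orderOf t = 2 → Nat.card {Q : Sylow 5 G // t • Q = Q} = 11 := by
    intro t ht hto
    have ht1 : t ≠ 1 := fun e => by rw [e, orderOf_one] at hto; norm_num at hto
    have h1 := fix_mod_one P hP ht
    have h4 := FixedPoints.four_dvd_moved hG (α := Sylow 5 G) (show t * t = 1 by
      rw [← pow_two, ← hto, pow_orderOf_eq_one])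
    have hlt := fix_lt (p := 5) hG hpG ht1
    rw [hn] at h4 hlt
    by_contra hne
    have hbig : 19 < Nat.card {Q : Sylow 5 G // t • Q = Q} := by
      generalize Nat.card {Q : Sylow 5 G // t • Q = Q} = f at h1 h4 hlt hne
      omega
    have hle : Nat.card {y : G // IsConj t y ∧ y ∈ N} ≤ 6 := by
      refine le_trans ?_ (card_elements_le P hP hC (m := 2) (by norm_num))
      refine Nat.card_le_card_of_injective (fun y => ⟨y.1, ?_, pow_conj_eq_one y.2.1
        (hto ▸ pow_orderOf_eq_one t)⟩) (fun a b hab => Subtype.ext (congrArg (fun z => z.1) hab))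
      exact conj_mem_centralizer P hP (by rw [hn]; exact hbig) y.2.1 y.2.2
    have hpos : 0 < Nat.card {y : G // IsConj t y ∧ y ∈ N} :=
      haveI : Nonempty {y : G // IsConj t y ∧ y ∈ N} :=
        ⟨⟨t, IsConj.refl t, centralizer_le_normalizer _ ht⟩⟩
      Nat.card_pos
    have hfix := FixedPoints.card_fixed_mul P t
    rw [← hNdef, hN] at hfix
    have hcd : Nat.card (centralizer ({t} : Set G)) ∣ 5460 := h ▸ card_subgroup_dvd_card _
    generalize Nat.card (centralizer ({t} : Set G)) = c at hcd hfix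
    generalize Nat.card {y : G // IsConj t y ∧ y ∈ N} = j at hle hpos hfix
    generalize Nat.card {Q : Sylow 5 G // t • Q = Q} = f at h1 h4 hlt hbig hfix
    have key2 : ∀ f ∈ List.range 91, f % 5 = 1 → 4 ∣ 91 - f → 19 < f → ∀ j ∈ [1, 2, 3, 4, 5, 6],
        60 * f % j = 0 → ¬ 60 * f / j ∣ 5460 := by decide +kernel
    have he : 60 * f = c * j := by omega
    exact key2 f (List.mem_range.2 hlt) h1 h4 hbig j (by simp; omega) (by rw [he, Nat.mul_mod_left])
      (by rwa [he, Nat.mul_div_cancel _ hpos])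
  obtain ⟨⟨w, hw⟩, hwo⟩ := exists_prime_orderOf_dvd_card' (G := C) 3 (hC.symm ▸ by norm_num)
  rw [Subgroup.orderOf_mk] at hwo
  have hw1 : w ≠ 1 := fun e => by rw [e, orderOf_one] at hwo; norm_num at hwo
  have hwN : w ∈ N := centralizer_le_normalizer _ hw
  -- elements of order three in `N(P)`
  have hidxC : C.relIndex N = 2 := by
    have h2 := relIndex_mul_relIndex ⊥ C N bot_le (centralizer_le_normalizer _)
    rw [relIndex_bot_left, relIndex_bot_left, hC, hN] at h2
    omega
  set M := (P : Subgroup G) ⊔ zpowers w with hM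
  have hMC : M ≤ C := sup_le (le_centralizer _) (zpowers_le.2 hw)
  have hMw : M ≤ centralizer ({w} : Set G) :=
    sup_le (fun y hy => mem_centralizer_singleton_iff.2 (mem_centralizer_iff.1 hw y hy))
      (zpowers_le.2 (mem_centralizer_singleton_iff.2 rfl))
  have hM15 : 15 ∣ Nat.card M := by
    refine (show Nat.Coprime 5 3 by norm_num).mul_dvd_of_dvd_of_dvd ?_ ?_
    · exact hP.symm.dvd.trans (card_dvd_of_le le_sup_left)
    · exact (((Nat.card_zpowers w).trans hwo).symm.dvd).trans (card_dvd_of_le le_sup_right)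
  have hMidx : (M.subgroupOf C).index = 2 := by
    have hMn : (M : Subgroup G).relIndex C * Nat.card M = 30 := by
      have h2 := relIndex_mul_relIndex ⊥ M C bot_le hMC
      rw [relIndex_bot_left, relIndex_bot_left, hC] at h2
      rw [mul_comm]; omega
    have hMle : Nat.card M ≠ 30 := by
      intro e
      have heq : M = C := eq_of_le_of_card_ge hMC (by rw [hC, e])
      obtain ⟨⟨t, ht⟩, hto⟩ := exists_prime_orderOf_dvd_card' (G := C) 2 (hC.symm ▸ by norm_num)
      rw [Subgroup.orderOf_mk] at hto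
      have hcomm : t * w = w * t := mem_centralizer_singleton_iff.1 (hMw (heq.symm ▸ ht))
      have h11 := hC11 t ht hto
      have hm := Order2520.fixed_mod (α := Sylow 5 G) (p := 3) (x := w) (hwo ▸ pow_orderOf_eq_one w)
        {Q | t • Q = Q} (fun Q (hQ : t • Q = Q) => by
          show t • (w • Q) = w • Q
          rw [← mul_smul, hcomm, mul_smul, hQ])
      have hmw := fix_mod_one P hP hw
      have hlt := fix_lt (p := 5) hG hpG hw1
      have h3 := fix_mod_prime (α := Sylow 5 G) hwo
      rw [hn] at hlt h3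
      have hsub : Nat.card {Q : Sylow 5 G // Q ∈ {Q : Sylow 5 G | t • Q = Q} ∧ w • Q = Q} ≤
          Nat.card {Q : Sylow 5 G // w • Q = Q} :=
        Nat.card_le_card_of_injective (fun Q => ⟨Q.1, Q.2.2⟩)
          fun a b hab => Subtype.ext (congrArg (fun z => z.1) hab)
      have hle : Nat.card {y : G // IsConj w y ∧ y ∈ N} ≤ 6 := by
        refine le_trans ?_ (card_elements_le P hP hC (m := 3) (by norm_num))
        refine Nat.card_le_card_of_injective (fun y => ⟨y.1, ?_, pow_conj_eq_one y.2.1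
          (hwo ▸ pow_orderOf_eq_one w)⟩) (fun a b hab => Subtype.ext (congrArg (fun z => z.1) hab))
        have h3 : y.1 ^ 3 = 1 := pow_conj_eq_one y.2.1 (hwo ▸ pow_orderOf_eq_one w)
        haveI : (C.subgroupOf N).Normal := normal_of_index_eq_two hidxC
        have h2 : ((⟨y.1, y.2.2⟩ : N) ^ (C.subgroupOf N).index) ∈ C.subgroupOf N :=
          Subgroup.pow_index_mem _ _
        rw [show (C.subgroupOf N).index = 2 from hidxC] at h2
        have : y.1 = (y.1 ^ 2) ^ 2 := by
          rw [← pow_mul, show 2 * 2 = 3 + 1 by norm_num, pow_succ, h3, one_mul]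
        rw [this]
        exact pow_mem (show y.1 ^ 2 ∈ C from h2) 2
      have hpos : 0 < Nat.card {y : G // IsConj w y ∧ y ∈ N} :=
        haveI : Nonempty {y : G // IsConj w y ∧ y ∈ N} := ⟨⟨w, IsConj.refl w, hwN⟩⟩
        Nat.card_pos
      have hfix := FixedPoints.card_fixed_mul P w
      rw [← hNdef, hN] at hfix
      have hcd : Nat.card (centralizer ({w} : Set G)) ∣ 5460 := h ▸ card_subgroup_dvd_card _
      change _ % 3 = Nat.card {Q : Sylow 5 G // t • Q = Q} % 3 at hm
      rw [h11] at hm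
      generalize Nat.card (centralizer ({w} : Set G)) = c at hcd hfix
      generalize Nat.card {y : G // IsConj w y ∧ y ∈ N} = j at hle hpos hfix
      generalize Nat.card {Q : Sylow 5 G // Q ∈ {Q : Sylow 5 G | t • Q = Q} ∧ w • Q = Q} = g
        at hm hsub
      generalize Nat.card {Q : Sylow 5 G // w • Q = Q} = f at hmw hlt h3 hsub hfix
      have key2 : ∀ f ∈ List.range 91, f % 5 = 1 → f % 3 = 1 → 1 < f → ∀ j ∈ [1, 2, 3, 4, 5, 6],
          60 * f % j = 0 → ¬ 60 * f / j ∣ 5460 := by decide +kernel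
      have he : 60 * f = c * j := by omega
      exact key2 f (List.mem_range.2 hlt) hmw h3 (by omega) j (by simp; omega)
        (by rw [he, Nat.mul_mod_left]) (by rwa [he, Nat.mul_div_cancel _ hpos])
    obtain ⟨a, ha⟩ := hM15
    show M.relIndex C = 2
    rw [ha] at hMn hMle
    have hle15 : M.relIndex C * a = 2 := by
      have : 15 * (M.relIndex C * a) = 15 * 2 := by rw [← mul_assoc, mul_comm 15, mul_assoc]; omega
      omega
    have := Nat.le_of_dvd (by norm_num) (Dvd.intro_left (M.relIndex C) hle15)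
    interval_cases a <;> omega
  have hM15' : Nat.card M = 15 := by
    have h2 := relIndex_mul_relIndex ⊥ M C bot_le hMC
    rw [relIndex_bot_left, relIndex_bot_left, hC, show M.relIndex C = 2 from hMidx] at h2
    omega
  have h3mem : ∀ y : G, y ∈ N → y ^ 3 = 1 → y ∈ M := by
    intro y hy h3
    have hy4 : y = (y ^ 2) ^ 2 := by
      rw [← pow_mul, show 2 * 2 = 3 + 1 by norm_num, pow_succ, h3, one_mul]
    haveI : (C.subgroupOf N).Normal := normal_of_index_eq_two hidxC
    have h2 : ((⟨y, hy⟩ : N) ^ (C.subgroupOf N).index) ∈ C.subgroupOf N := Subgroup.pow_index_mem _ _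
    rw [show (C.subgroupOf N).index = 2 from hidxC] at h2
    have hyC : y ∈ C := hy4 ▸ pow_mem (show y ^ 2 ∈ C from h2) 2
    haveI : (M.subgroupOf C).Normal := normal_of_index_eq_two hMidx
    have h2' : ((⟨y, hyC⟩ : C) ^ (M.subgroupOf C).index) ∈ M.subgroupOf C := Subgroup.pow_index_mem _ _
    rw [hMidx] at h2'
    exact hy4 ▸ pow_mem (show y ^ 2 ∈ M from h2') 2
  have hle : Nat.card {y : G // IsConj w y ∧ y ∈ N} ≤ 3 := by
    have hidx : Nat.card (M ⧸ (P : Subgroup G).subgroupOf M) = 3 := by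
      have h2 := card_mul_index ((P : Subgroup G).subgroupOf M)
      rw [Nat.card_congr (subgroupOfEquivOfLe le_sup_left).toEquiv, hP, hM15'] at h2
      show ((P : Subgroup G).subgroupOf M).index = 3
      omega
    rw [← hidx]
    refine Nat.card_le_card_of_injective (fun y => (QuotientGroup.mk
      (⟨y.1, h3mem y.1 y.2.2 (pow_conj_eq_one y.2.1 (hwo ▸ pow_orderOf_eq_one w))⟩ : M) :
        M ⧸ (P : Subgroup G).subgroupOf M)) fun a b hab => Subtype.ext ?_
    have hab' := QuotientGroup.eq.1 hab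
    rw [mem_subgroupOf] at hab'
    change a.1⁻¹ * b.1 ∈ (P : Subgroup G) at hab'
    have ha3 := pow_conj_eq_one a.2.1 (hwo ▸ pow_orderOf_eq_one w)
    have hb3 := pow_conj_eq_one b.2.1 (hwo ▸ pow_orderOf_eq_one w)
    have haC : a.1 ∈ C := hMC (h3mem a.1 a.2.2 ha3)
    have hc : Commute a.1⁻¹ b.1 := by
      have h1 := mem_centralizer_iff.1 haC _ hab'
      refine Eq.symm ?_
      calc b.1 * a.1⁻¹ = a.1 * (a.1⁻¹ * b.1) * a.1⁻¹ := by group
        _ = (a.1⁻¹ * b.1) * a.1 * a.1⁻¹ := by rw [h1]
        _ = a.1⁻¹ * b.1 := by group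
    have h3 : (a.1⁻¹ * b.1) ^ 3 = 1 := by rw [hc.mul_pow, inv_pow, ha3, hb3, inv_one, mul_one]
    have h5 : (a.1⁻¹ * b.1) ^ 5 = 1 :=
      congrArg Subtype.val ((congrArg ((⟨_, hab'⟩ : (P : Subgroup G)) ^ ·) hP.symm).trans
        pow_card_eq_one' : (⟨_, hab'⟩ : (P : Subgroup G)) ^ 5 = 1)
    have h1 := pow_gcd_eq_one.2 ⟨h3, h5⟩
    norm_num at h1
    exact inv_mul_eq_one.1 h1
  have hpos : 0 < Nat.card {y : G // IsConj w y ∧ y ∈ N} :=
    haveI : Nonempty {y : G // IsConj w y ∧ y ∈ N} := ⟨⟨w, IsConj.refl w, hwN⟩⟩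
    Nat.card_pos
  have hfix := FixedPoints.card_fixed_mul P w
  rw [← hNdef, hN] at hfix
  have h1 := fix_mod_one P hP hw
  have h3 := fix_mod_prime (α := Sylow 5 G) hwo
  have hlt := fix_lt (p := 5) hG hpG hw1
  rw [hn] at h3 hlt
  have hcd : Nat.card (centralizer ({w} : Set G)) ∣ 5460 := h ▸ card_subgroup_dvd_card _
  have h15 : 15 ∣ Nat.card (centralizer ({w} : Set G)) := hM15' ▸ card_dvd_of_le hMw
  have hfw : Nat.card {Q : Sylow 5 G // w • Q = Q} = 1 ∧ 2 ∣ Nat.card (centralizer ({w} : Set G)) := by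
    generalize Nat.card (centralizer ({w} : Set G)) = c at hcd h15 hfix
    generalize Nat.card {y : G // IsConj w y ∧ y ∈ N} = j at hle hpos hfix
    generalize Nat.card {Q : Sylow 5 G // w • Q = Q} = f at h1 h3 hlt hfix
    have key2 : ∀ f ∈ List.range 91, f % 5 = 1 → f % 3 = 1 → ∀ j ∈ [1, 2, 3],
        60 * f % j = 0 → 60 * f / j ∣ 5460 → 15 ∣ 60 * f / j → f = 1 ∧ 2 ∣ 60 * f / j := by
      decide +kernel
    have he : 60 * f = c * j := by omega
    have := key2 f (List.mem_range.2 hlt) h1 h3 j (by simp; omega) (by rw [he, Nat.mul_mod_left])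
      (by rwa [he, Nat.mul_div_cancel _ hpos]) (by rwa [he, Nat.mul_div_cancel _ hpos])
    rwa [he, Nat.mul_div_cancel _ hpos] at this
  obtain ⟨hf1, h2c⟩ := hfw
  obtain ⟨R, hR⟩ := Nat.card_eq_one_iff_exists.1 hf1
  have hcwN : ∀ z, z * w = w * z → z ∈ N := by
    intro z hz
    refine Sylow.smul_eq_iff_mem_normalizer.1 ?_
    have hzP : w • (z • P) = z • P := by
      rw [← mul_smul, ← hz, mul_smul, Sylow.smul_eq_iff_mem_normalizer.2 hwN]
    exact congrArg Subtype.val ((hR ⟨z • P, hzP⟩).trans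
      (hR ⟨P, Sylow.smul_eq_iff_mem_normalizer.2 hwN⟩).symm)
  obtain ⟨⟨u, hu⟩, huo⟩ := exists_prime_orderOf_dvd_card' (G := centralizer ({w} : Set G)) 2 h2c
  rw [Subgroup.orderOf_mk] at huo
  have huw : u * w = w * u := mem_centralizer_singleton_iff.1 hu
  have huN : u ∈ N := hcwN u huw
  have hu11 : Nat.card {Q : Sylow 5 G // u • Q = Q} ≠ 11 := by
    intro e
    have hm := Order2520.fixed_mod (α := Sylow 5 G) (p := 3) (x := w) (hwo ▸ pow_orderOf_eq_one w)
      {Q | u • Q = Q} (fun Q (hQ : u • Q = Q) => by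
        show u • (w • Q) = w • Q
        rw [← mul_smul, huw, mul_smul, hQ])
    change _ % 3 = Nat.card {Q : Sylow 5 G // u • Q = Q} % 3 at hm
    rw [e] at hm
    have hone : Nat.card {Q : Sylow 5 G // Q ∈ {Q : Sylow 5 G | u • Q = Q} ∧ w • Q = Q} ≤ 1 := by
      rw [← hf1]
      exact Nat.card_le_card_of_injective (fun Q => ⟨Q.1, Q.2.2⟩)
        fun a b hab => Subtype.ext (congrArg (fun z => z.1) hab)
    omega
  have huC : u ∉ C := fun hm => hu11 (hC11 u hm huo)
  obtain ⟨T, hTN, huT⟩ := exists_sylow_le_mem N (by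
    have := card_mul_index N
    rw [hN, h] at this
    omega) huN huo
  obtain ⟨v, hv, hvC⟩ := exists_conj_centralizer hG P T hTN (by
    rw [show (centralizer ((P : Subgroup G) : Set G)).relIndex
      (normalizer ((P : Subgroup G) : Set G)) = 2 from hidxC]
    norm_num) huT huo huC
  exact hu11 ((Order2520.card_fixed_conj hv).trans (hC11 v hvC ((conj_orderOf hv).trans huo)))

end Cfsg.Agent.SmallSimple.Orders6232
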