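import Cfsg.Agent.Lib.SmallSimple.Orders6232.Intersection

/-!
# The orders 4800 and 5400

The Sylow `5`-subgroups are abelian of order `25`; two of them meet in a subgroup `⟨d⟩` of order
five, and the conjugates of `d` commuting with `d` are too many.
-/

set_option autoImplicit false
set_option linter.style.haveILetI false

namespace Cfsg.Agent.SmallSimple.Orders6232

open Subgroup MulAction

variable {G : Type*} [Group G] [Finite G]

theorem mem_of_fixed {p : ℕ} [Fact p.Prime] {Q : Sylow p G} {d : G} {k : ℕ} (hd : orderOf d = p ^ k)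
    (hQ : d • Q = Q) : d ∈ (Q : Subgroup G) := by
  have hle : zpowers d ≤ normalizer ((Q : Subgroup G) : Set G) :=
    zpowers_le.2 (Sylow.smul_eq_iff_mem_normalizer.1 hQ)
  have hp := IsPGroup.to_sup_of_normal_right' (IsPGroup.of_card (n := k) (by rw [Nat.card_zpowers, hd]) :
    IsPGroup p (zpowers d)) Q.2 hle
  exact (Q.3 hp le_sup_right).le (le_sup_left (b := (Q : Subgroup G)) (mem_zpowers d))

/-- With abelian Sylow `p`-subgroups, those fixed by `d` are those of `C(d)`. -/
theorem card_fixed_eq_sylow_centralizer {p : ℕ} [Fact p.Prime]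
    (hab : ∀ Q : Sylow p G, IsMulCommutative (Q : Subgroup G)) {P : Sylow p G} {d : G}
    (hd : d ∈ (P : Subgroup G)) (hdo : orderOf d = p) :
    Nat.card {Q : Sylow p G // d • Q = Q} = Nat.card (Sylow p (centralizer ({d} : Set G))) := by
  have hQC : ∀ Q : Sylow p G, d ∈ (Q : Subgroup G) → (Q : Subgroup G) ≤ centralizer ({d} : Set G) :=
    fun Q hQ z hz => mem_centralizer_singleton_iff.2 (by
      haveI := hab Q
      exact congrArg Subtype.val (mul_comm' (⟨z, hz⟩ : (Q : Subgroup G)) ⟨d, hQ⟩))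
  have hdo' : orderOf d = p ^ 1 := hdo.trans (pow_one p).symm
  refine Nat.card_congr (Equiv.ofBijective
    (fun Q => Q.1.subtype (hQC Q.1 (mem_of_fixed hdo' Q.2))) ⟨fun a b hab => Subtype.ext
      (Sylow.subtype_injective hab), fun R => ?_⟩)
  obtain ⟨Q, hQ⟩ := (R.isPGroup'.map (centralizer ({d} : Set G)).subtype).exists_le_sylow
  have hcard : Nat.card (R : Subgroup (centralizer ({d} : Set G))) = Nat.card (P : Subgroup G) := by
    rw [R.card_eq_multiplicity, ← (P.subtype (hQC P hd)).card_eq_multiplicity, Sylow.coe_subtype,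
      Nat.card_congr (subgroupOfEquivOfLe (hQC P hd)).toEquiv]
  have he : (R : Subgroup (centralizer ({d} : Set G))).map (centralizer ({d} : Set G)).subtype =
      (Q : Subgroup G) := eq_of_le_of_card_ge hQ (le_of_eq (by
    rw [card_map_of_injective (centralizer ({d} : Set G)).subtype_injective, hcard,
      Q.card_eq_multiplicity, P.card_eq_multiplicity]))
  have hQle : (Q : Subgroup G) ≤ centralizer ({d} : Set G) := he ▸ map_subtype_le _
  refine ⟨⟨Q, Sylow.smul_eq_iff_mem_normalizer.2 (centralizer_le_normalizer _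
    (mem_centralizer_iff.2 fun z hz => mem_centralizer_singleton_iff.1 (hQle hz)))⟩, Sylow.ext ?_⟩
  rw [Sylow.coe_subtype, ← he]
  exact comap_map_eq_self_of_injective (centralizer ({d} : Set G)).subtype_injective _

omit [Finite G] in
/-- In a group of order twice an odd number times `p^a`, the Sylow number divides the odd part. -/
theorem sylow_dvd_odd_part [Finite G] {p a l : ℕ} [Fact p.Prime] (hp : p ≠ 2)
    (hcard : Nat.card G = p ^ a * (2 * l)) (hl : ¬ 2 ∣ l) (hpl : ¬ p ∣ l) :
    Nat.card (Sylow p G) ∣ l := by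
  classical
  haveI : Fact (Nat.Prime 2) := ⟨Nat.prime_two⟩
  have hpp : p.Prime := Fact.out
  obtain ⟨T⟩ : Nonempty (Sylow 2 G) := inferInstance
  have hT : Nat.card (T : Subgroup G) = 2 := by
    have h2 : ¬ 2 ∣ p ^ a * l := fun h => by
      rcases Nat.prime_two.dvd_mul.1 h with h | h
      · exact hp ((Nat.prime_dvd_prime_iff_eq Nat.prime_two hpp).1 (Nat.prime_two.dvd_of_dvd_pow h)).symm
      · exact hl h
    rw [Basic.card_sylow_eq_pow (a := 1) (m := p ^ a * l) (by rw [hcard]; ring) h2 T, pow_one]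
  obtain ⟨M, hM⟩ := Cfsg.Agent.Involutions.ThompsonTransfer.exists_index_two_of_isCyclic_sylow
    (by rw [hcard, mul_left_comm]; exact even_two_mul _) T (isCyclic_of_prime_card hT)
  haveI : M.Normal := normal_of_index_eq_two hM
  obtain ⟨P⟩ : Nonempty (Sylow p G) := inferInstance
  have hPM : (P : Subgroup G) ≤ M := by
    intro x hx
    have h2 : x ^ 2 ∈ M := hM ▸ Subgroup.pow_index_mem M x
    obtain ⟨k, hk⟩ := IsPGroup.iff_orderOf.1 P.isPGroup' ⟨x, hx⟩
    rw [Subgroup.orderOf_mk] at hk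
    have hodd : Odd (orderOf x) := hk ▸ (hpp.odd_of_ne_two hp).pow
    obtain ⟨j, hj⟩ := hodd
    have : x = (x ^ 2) ^ (j + 1) := by
      rw [← pow_mul, show 2 * (j + 1) = orderOf x + 1 by omega, pow_succ, pow_orderOf_eq_one, one_mul]
    rw [this]
    exact pow_mem h2 _
  have hsup : normalizer ((P : Subgroup G) : Set G) ⊔ M = ⊤ := Sylow.normalizer_sup_eq_top' P hPM
  have h1 : (normalizer ((P : Subgroup G) : Set G)).index ∣ Nat.card M := by
    have h2 := relIndex_sup_right (H := normalizer ((P : Subgroup G) : Set G)) (K := M)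
    rw [hsup, relIndex_top_right, hM] at h2
    have h3 := Order2520.card_inf_mul M (normalizer ((P : Subgroup G) : Set G))
    rw [← h2] at h3
    have h4 := card_mul_index (normalizer ((P : Subgroup G) : Set G))
    have h5 := card_mul_index M
    rw [hM, ← h4, ← h3] at h5
    refine ⟨Nat.card ↥(normalizer ((P : Subgroup G) : Set G) ⊓ M), ?_⟩
    linarith
  have hn : Nat.card (Sylow p G) = (normalizer ((P : Subgroup G) : Set G)).index :=
    P.card_eq_index_normalizer
  have hMc : Nat.card M = p ^ a * l := by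
    have := card_mul_index M
    rw [hM, hcard] at this
    linarith
  rw [← hn, hMc] at h1
  refine (Nat.Coprime.dvd_of_dvd_mul_left ?_ h1)
  refine Nat.Coprime.pow_right a ((Nat.Prime.coprime_iff_not_dvd hpp).2 fun h => ?_).symm
  have := card_sylow_modEq_one p G
  rw [Nat.ModEq, Nat.mod_eq_zero_of_dvd h, Nat.one_mod_eq_one.2 hpp.ne_one] at this
  exact zero_ne_one this

variable [IsSimpleGroup G]

/-- The data of an intersection `⟨d⟩` of two Sylow `5`-subgroups of order `25`. -/
theorem five_data (hG : ¬ IsMulCommutative G) [Fact (Nat.Prime 5)] {m : ℕ}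
    (h : Nat.card G = 25 * m) (hm : ¬ 5 ∣ m) (hmod : Nat.card (Sylow 5 G) % 25 ≠ 1) :
    ∃ (P : Sylow 5 G) (d : G) (m' r i : ℕ), d ∈ (P : Subgroup G) ∧ orderOf d = 5 ∧
      Nat.card (centralizer ({d} : Set G)) = 25 * m' ∧
      (centralizer ({d} : Set G)).relIndex (normalizer ((zpowers d : Subgroup G) : Set G)) = r ∧
      m' * r * i = m ∧ 1 < i ∧ (i ≤ 20 → 2 * Nat.card G ∣ i.factorial) ∧
      Nat.card {Q : Sylow 5 G // d • Q = Q} ∣ m' ∧
      Nat.card {Q : Sylow 5 G // d • Q = Q} % 5 = 1 ∧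
      1 < Nat.card {Q : Sylow 5 G // d • Q = Q} ∧
      Nat.card {Q : Sylow 5 G // d • Q = Q} < Nat.card (Sylow 5 G) ∧
      (m' % 4 = 2 → Nat.card {Q : Sylow 5 G // d • Q = Q} ∣ m' / 2) := by
  classical
  have hS : ∀ Q : Sylow 5 G, Nat.card (Q : Subgroup G) = 25 := fun Q => by
    rw [Basic.card_sylow_eq_pow (a := 2) (m := m) (by rw [h]; norm_num) hm Q]; norm_num
  have hab : ∀ Q : Sylow 5 G, IsMulCommutative (Q : Subgroup G) := fun Q =>
    IsPGroup.isMulCommutative_of_card_eq_prime_sq (p := 5) (by rw [hS Q]; norm_num)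
  obtain ⟨P, R, hPR, hi, hPH, hRH, hne⟩ := exists_intersection (p := 5) hG
    (h ▸ dvd_mul_right 25 m) hmod
  set D := (P : Subgroup G) ⊓ (R : Subgroup G) with hD
  have hDc : Nat.card D = 5 := by
    have hd25 : Nat.card D ∣ 25 := hS P ▸ card_dvd_of_le inf_le_left
    have hmul := card_mul_index (D.subgroupOf (P : Subgroup G))
    rw [Nat.card_congr (subgroupOfEquivOfLe inf_le_left).toEquiv, hS P] at hmul
    have h25 : Nat.card D ≠ 25 := fun e => hPR (Sylow.ext
      ((eq_of_le_of_card_ge inf_le_left ((hS P).trans e.symm).le).symm.trans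
        (eq_of_le_of_card_ge inf_le_right ((hS R).trans e.symm).le)))
    have key : ∀ c ∈ Nat.divisors 25, c ≠ 25 → c = 5 ∨ c = 1 := by decide +kernel
    rcases key _ (Nat.mem_divisors.2 ⟨hd25, by norm_num⟩) h25 with h' | h'
    · exact h'
    · rw [h'] at hmul
      omega
  obtain ⟨⟨d, hdD⟩, hdo⟩ := exists_prime_orderOf_dvd_card' (G := D) 5 hDc.symm.dvd
  rw [Subgroup.orderOf_mk] at hdo
  have hz : zpowers d = D := eq_of_le_of_card_ge (zpowers_le.2 hdD) (by rw [Nat.card_zpowers, hdo, hDc])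
  have hdP : d ∈ (P : Subgroup G) := hdD.1
  have hdR : d ∈ (R : Subgroup G) := hdD.2
  have hd1 : d ≠ 1 := fun e => by rw [e, orderOf_one] at hdo; norm_num at hdo
  set C := centralizer ({d} : Set G) with hCdef
  set H := normalizer ((zpowers d : Subgroup G) : Set G) with hHdef
  have hPC : ∀ Q : Sylow 5 G, d ∈ (Q : Subgroup G) → (Q : Subgroup G) ≤ C := fun Q hQ z hz' =>
    mem_centralizer_singleton_iff.2 (by
      haveI := hab Q
      exact congrArg Subtype.val (mul_comm' (⟨z, hz'⟩ : (Q : Subgroup G)) ⟨d, hQ⟩))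
  have hCH : C ≤ H := by
    rw [hHdef, zpowers_eq_closure]
    refine le_trans ?_ (centralizer_le_normalizer _)
    rw [centralizer_closure]
  have hH : H ≠ ⊤ := by rw [hHdef, hz]; exact hne
  obtain ⟨m', hm'⟩ : 25 ∣ Nat.card C := hS P ▸ card_dvd_of_le (hPC P hdP)
  have hfix := card_fixed_eq_sylow_centralizer hab hdP hdo
  have hsplit := relIndex_mul_relIndex ⊥ C H bot_le hCH
  rw [relIndex_bot_left, relIndex_bot_left] at hsplit
  have hidx := card_mul_index H
  have hmri : m' * C.relIndex H * H.index = m := by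
    have : 25 * (m' * C.relIndex H * H.index) = 25 * m := by
      rw [← h, ← hidx, ← hsplit, hm']; ring
    omega
  have hm'm : m' ∣ m := ⟨C.relIndex H * H.index, by rw [← hmri]; ring⟩
  have hm'5 : ¬ 5 ∣ m' := fun h5 => hm (h5.trans hm'm)
  refine ⟨P, d, m', C.relIndex H, H.index, hdP, hdo, hm', rfl, hmri, ?_, fun _ => ?_, ?_, ?_, ?_, ?_, ?_⟩
  · exact Nat.lt_of_le_of_ne (Nat.one_le_iff_ne_zero.2 H.index_ne_zero_of_finite)
      (fun e => hH (index_eq_one.1 e.symm))
  · exact Basic.two_mul_card_dvd_factorial hG H hH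
  · rw [hfix]
    have hd' := (P.subtype (hPC P hdP)).card_dvd_index
    have hmul := card_mul_index ((P.subtype (hPC P hdP) : Sylow 5 C) : Subgroup C)
    rw [Sylow.coe_subtype, Nat.card_congr (subgroupOfEquivOfLe (hPC P hdP)).toEquiv, hS P, hm'] at hmul
    rw [Sylow.coe_subtype, Nat.eq_of_mul_eq_mul_left (by norm_num) hmul] at hd'
    exact hd'
  · rw [hfix]
    exact card_sylow_modEq_one 5 C
  · refine Finite.one_lt_card_iff_nontrivial.2 ⟨⟨P, Sylow.smul_eq_iff_mem_normalizer.2 (le_normalizer hdP)⟩,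
      ⟨R, Sylow.smul_eq_iff_mem_normalizer.2 (le_normalizer hdR)⟩, fun e => hPR (congrArg Subtype.val e)⟩
  · exact fix_lt (p := 5) hG (h ▸ (by norm_num : 5 ∣ 25).mul_right m) hd1
  · intro h4
    rw [hfix]
    refine sylow_dvd_odd_part (p := 5) (a := 2) (by norm_num) ?_ (by omega) fun h5 => hm'5 ?_
    · rw [hm']; norm_num; omega
    · rw [show m' = 2 * (m' / 2) by omega]
      exact h5.mul_left 2

omit [IsSimpleGroup G] in
/-- The conjugates of `d` commuting with it, counted through the Sylow subgroups containing it. -/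
theorem card_neighbours [Fact (Nat.Prime 5)]
    (hab : ∀ Q : Sylow 5 G, IsMulCommutative (Q : Subgroup G))
    (hS : ∀ Q : Sylow 5 G, Nat.card (Q : Subgroup G) = 25)
    {d : G} (hdo : orderOf d = 5)
    (hr : (centralizer ({d} : Set G)).relIndex (normalizer ((zpowers d : Subgroup G) : Set G)) = 1)
    {j : ℕ} (hj : ∀ Q : Sylow 5 G, d • Q = Q →
      j ≤ Nat.card {y : G // IsConj d y ∧ y ∈ normalizer ((Q : Subgroup G) : Set G)}) :
    1 + Nat.card {Q : Sylow 5 G // d • Q = Q} * (j - 1) ≤
      Nat.card {y : G // IsConj d y ∧ Commute d y} := by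
  classical
  haveI := Fintype.ofFinite {Q : Sylow 5 G // d • Q = Q}
  have hdo' : orderOf d = 5 ^ 1 := hdo.trans (pow_one 5).symm
  have hyo : ∀ y, IsConj d y → orderOf y = 5 ^ 1 := fun y hy => by
    obtain ⟨g, rfl⟩ := isConj_iff.1 hy
    exact (orderOf_injective (MulAut.conj g).toMonoidHom (MulAut.conj g).injective d).trans hdo'
  -- no other conjugate of `d` lies in `⟨d⟩`
  have honly : ∀ y, IsConj d y → y ∈ zpowers d → y = d := by
    intro y hy hyz
    obtain ⟨g, rfl⟩ := isConj_iff.1 hy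
    have hg : g ∈ normalizer ((zpowers d : Subgroup G) : Set G) := by
      have hmap : (zpowers d).map (MulAut.conj g).toMonoidHom = zpowers d := by
        rw [MonoidHom.map_zpowers]
        refine eq_of_le_of_card_ge (zpowers_le.2 hyz) ?_
        rw [Nat.card_zpowers, Nat.card_zpowers]
        exact (orderOf_injective (MulAut.conj g).toMonoidHom (MulAut.conj g).injective d).ge
      refine mem_normalizer_iff.2 fun z => ⟨fun hz => hmap ▸ ⟨z, hz, rfl⟩, fun hz => ?_⟩
      rw [← hmap] at hz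
      obtain ⟨z', hz', he⟩ := hz
      exact (MulAut.conj g).injective he ▸ hz'
    exact mul_inv_eq_iff_eq_mul.2 (mem_centralizer_singleton_iff.1 (relIndex_eq_one.1 hr hg))
  let F : Option (Σ Q : {Q : Sylow 5 G // d • Q = Q},
      {y : G // IsConj d y ∧ y ∈ normalizer ((Q.1 : Subgroup G) : Set G) ∧ y ≠ d}) →
      {y : G // IsConj d y ∧ Commute d y} := fun o => match o with
    | none => ⟨d, IsConj.refl d, Commute.refl d⟩
    | some s => ⟨s.2.1, s.2.2.1, by
        haveI := hab s.1.1
        exact congrArg Subtype.val (mul_comm'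
          (⟨d, mem_of_fixed hdo' s.1.2⟩ : (s.1.1 : Subgroup G))
          ⟨s.2.1, mem_of_fixed (hyo _ s.2.2.1) (Sylow.smul_eq_iff_mem_normalizer.2 s.2.2.2.1)⟩)⟩
  have hF : Function.Injective F := by
    intro a b hab'
    have hv := congrArg Subtype.val hab'
    match a, b with
    | none, none => rfl
    | none, some s => exact absurd hv.symm s.2.2.2.2
    | some s, none => exact absurd hv s.2.2.2.2
    | some s, some t =>
      change s.2.1 = t.2.1 at hv
      obtain ⟨Q, ⟨y, hy, hyQ, hne⟩⟩ := s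
      obtain ⟨Q', ⟨y', hy', hyQ', hne'⟩⟩ := t
      change y = y' at hv
      subst hv
      have hQQ : Q = Q' := by
        by_contra hQ
        have hdQ := mem_of_fixed hdo' Q.2
        have hdQ' := mem_of_fixed hdo' Q'.2
        have hyQ1 := mem_of_fixed (hyo y hy) (Sylow.smul_eq_iff_mem_normalizer.2 hyQ)
        have hyQ1' := mem_of_fixed (hyo y hy) (Sylow.smul_eq_iff_mem_normalizer.2 hyQ')
        set I := ((Q.1 : Subgroup G)) ⊓ (Q'.1 : Subgroup G)
        have hIc : Nat.card I ≠ 25 := fun e => hQ (Subtype.ext (Sylow.ext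
          ((eq_of_le_of_card_ge inf_le_left ((hS Q.1).trans e.symm).le).symm.trans
            (eq_of_le_of_card_ge inf_le_right ((hS Q'.1).trans e.symm).le))))
        have hI25 : Nat.card I ∣ 25 := hS Q.1 ▸ card_dvd_of_le inf_le_left
        have hzI : zpowers d ≤ I := zpowers_le.2 ⟨hdQ, hdQ'⟩
        have key : ∀ c ∈ Nat.divisors 25, c ≠ 25 → c ≤ 5 := by decide +kernel
        have heq : zpowers d = I := eq_of_le_of_card_ge hzI (by
          rw [Nat.card_zpowers, hdo]
          exact key _ (Nat.mem_divisors.2 ⟨hI25, by norm_num⟩) hIc)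
        exact hne (honly y hy (heq ▸ ⟨hyQ1, hyQ1'⟩))
      subst hQQ
      rfl
  refine le_trans ?_ (Nat.card_le_card_of_injective F hF)
  rw [Finite.card_option, Nat.card_sigma, add_comm]
  refine Nat.add_le_add_right ?_ 1
  rw [Nat.card_eq_fintype_card (α := {Q : Sylow 5 G // d • Q = Q}), ← Finset.card_univ, ← smul_eq_mul,
    ← Finset.sum_const]
  refine Finset.sum_le_sum fun Q _ => ?_
  have hsum : Nat.card {y : G // IsConj d y ∧ y ∈ normalizer ((Q.1 : Subgroup G) : Set G)} ≤
      Nat.card (Option {y : G // IsConj d y ∧ y ∈ normalizer ((Q.1 : Subgroup G) : Set G) ∧ y ≠ d}) := by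
    refine Nat.card_le_card_of_injective (fun y => if hy : y.1 = d then none else some ⟨y.1, y.2.1, y.2.2, hy⟩)
      fun a b hab' => ?_
    by_cases ha : a.1 = d <;> by_cases hb : b.1 = d
    · exact Subtype.ext (ha.trans hb.symm)
    · simp [ha, hb] at hab'
    · simp [ha, hb] at hab'
    · simp only [dif_neg ha, dif_neg hb, Option.some.injEq, Subtype.mk.injEq] at hab'
      exact Subtype.ext hab'
  rw [Finite.card_option] at hsum
  have := hj Q.1 Q.2
  omega

omit [IsSimpleGroup G] in
theorem card_normalizer_sylow {p : ℕ} [Fact p.Prime] (Q : Sylow p G) {n N : ℕ}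
    (hn : Nat.card (Sylow p G) = n) (hN : Nat.card G = N) :
    Nat.card (normalizer ((Q : Subgroup G) : Set G)) = N / n := by
  rw [← hN, ← Basic.card_normalizer_mul Q, hn, Nat.mul_div_cancel _ (hn ▸ Nat.card_pos)]

theorem ne_4800 : Nat.card G ≠ 4800 := by
  intro h
  classical
  have hG : ¬ IsMulCommutative G := Basic.not_comm_of_not_prime (by rw [h]; norm_num)
  haveI : Fact (Nat.Prime 5) := ⟨by norm_num⟩
  haveI : Fact (Nat.Prime 2) := ⟨Nat.prime_two⟩
  have hab : ∀ Q : Sylow 5 G, Nat.card (Q : Subgroup G) = 25 := fun Q => by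
    rw [Basic.card_sylow_eq_pow (a := 2) (m := 192) (by rw [h]; norm_num) (by norm_num) Q]; norm_num
  have hab' : ∀ Q : Sylow 5 G, IsMulCommutative (Q : Subgroup G) := fun Q =>
    IsPGroup.isMulCommutative_of_card_eq_prime_sq (p := 5) (by rw [hab Q]; norm_num)
  obtain ⟨hd, hmod, h1, hf⟩ := Basic.sylow_count (p := 5) hG (h ▸ by norm_num) (a := 2) (m := 192)
    (by rw [h]; norm_num) (by norm_num)
  rw [h] at hf
  have key : ∀ n ∈ Nat.divisors 192, n % 5 = 1 → 1 < n → 9600 ∣ n.factorial → n = 16 ∨ n = 96 := by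
    decide +kernel
  have hn := key _ (Nat.mem_divisors.2 ⟨hd, by norm_num⟩) hmod h1 hf
  obtain ⟨P, d, m', r, i, hdP, hdo, hC, hrel, hmri, hi1, hfine, hsd, hs5, hs1, hslt, hodd⟩ :=
    five_data hG (m := 192) (by rw [h]) (by norm_num) (by rcases hn with e | e <;> rw [e] <;> norm_num)
  rw [h] at hfine
  have hm'd : m' ∈ Nat.divisors 192 :=
    Nat.mem_divisors.2 ⟨⟨r * i, by rw [← hmri]; ring⟩, by norm_num⟩
  have hm'0 : 0 < m' := Nat.pos_of_mem_divisors hm'd
  have hrd : r ∈ Nat.divisors (192 / m') := Nat.mem_divisors.2 ⟨⟨i, by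
    rw [← hmri, mul_assoc, Nat.mul_div_cancel_left _ hm'0]⟩, by
      rw [← hmri, mul_assoc, Nat.mul_div_cancel_left _ hm'0]
      exact fun e => by rw [mul_assoc, e, mul_zero] at hmri; norm_num at hmri⟩
  have hi : i = 192 / m' / r := by
    rw [← hmri, mul_assoc, Nat.mul_div_cancel_left _ hm'0,
      Nat.mul_div_cancel_left _ (Nat.pos_of_mem_divisors hrd)]
  rw [hi] at hfine hi1
  generalize hs : Nat.card {Q : Sylow 5 G // d • Q = Q} = s at hsd hs5 hs1 hslt hodd
  have hsm : s ∈ Nat.divisors m' := Nat.mem_divisors.2 ⟨hsd, hm'0.ne'⟩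
  rcases hn with hn | hn
  · rw [hn] at hslt
    have key2 : ∀ m' ∈ Nat.divisors 192, ∀ r ∈ Nat.divisors (192 / m'), ∀ s ∈ Nat.divisors m',
        s % 5 = 1 → 1 < s → s < 16 → 1 < 192 / m' / r →
        (192 / m' / r ≤ 20 → 9600 ∣ (192 / m' / r).factorial) → (m' % 4 = 2 → s ∣ m' / 2) →
        m' = 12 ∧ r = 1 ∧ s = 6 := by decide +kernel
    obtain ⟨rfl, rfl, rfl⟩ := key2 m' hm'd r hrd s hsm hs5 hs1 hslt hi1 hfine hodd
    have hj : ∀ Q : Sylow 5 G, d • Q = Q →
        6 ≤ Nat.card {y : G // IsConj d y ∧ y ∈ normalizer ((Q : Subgroup G) : Set G)} := by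
      intro Q _
      have hfix := FixedPoints.card_fixed_mul Q d
      rw [hs, hC, card_normalizer_sylow Q hn h] at hfix
      omega
    have hA := card_neighbours hab' hab hdo hrel hj
    rw [hs] at hA
    have hK : Nat.card {y : G // IsConj d y ∧ Commute d y} ≤ Nat.card {y : G // IsConj d y} :=
      Nat.card_le_card_of_injective (fun y => ⟨y.1, y.2.1⟩)
        fun a b e => Subtype.ext (congrArg (fun z => z.1) e)
    have hcl := Basic.card_centralizer_mul_card_class d
    rw [hC, h] at hcl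
    omega
  · rw [hn] at hslt
    -- `N(P)` inverts `d`
    set N := normalizer ((P : Subgroup G) : Set G) with hNdef
    have hN : Nat.card N = 50 := by rw [hNdef, card_normalizer_sylow P hn h]
    haveI := hab' P
    obtain ⟨⟨u, hu⟩, huo⟩ := exists_prime_orderOf_dvd_card' (G := N) 2 (hN.symm ▸ by norm_num)
    rw [Subgroup.orderOf_mk] at huo
    have hidx : ((P : Subgroup G).subgroupOf N).index = 2 := by
      have h2 := card_mul_index ((P : Subgroup G).subgroupOf N)
      rw [Nat.card_congr (subgroupOfEquivOfLe le_normalizer).toEquiv, hab P, hN] at h2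
      omega
    have huP : u ∉ (P : Subgroup G) := fun hm => by
      have h2 := orderOf_dvd_natCard (⟨u, hm⟩ : (P : Subgroup G))
      rw [Subgroup.orderOf_mk, huo, hab P] at h2
      norm_num at h2
    have huu : u * u = 1 := by rw [← pow_two, ← huo, pow_orderOf_eq_one]
    have hui : u⁻¹ = u := inv_eq_of_mul_eq_one_right huu
    have hud : u * d * u⁻¹ ∈ (P : Subgroup G) := (mem_normalizer_iff.1 hu d).1 hdP
    have hcom : ∀ a b : G, a ∈ (P : Subgroup G) → b ∈ (P : Subgroup G) → a * b = b * a :=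
      fun a b ha hb => congrArg Subtype.val (mul_comm' (⟨a, ha⟩ : (P : Subgroup G)) ⟨b, hb⟩)
    set z := d * (u * d * u⁻¹) with hz
    have hzP : z ∈ (P : Subgroup G) := mul_mem hdP hud
    have hzu : u * z = z * u := by
      rw [hz]
      conv_rhs => rw [hcom _ _ hdP hud]
      calc u * (d * (u * d * u⁻¹)) = u * d * (u * d) * u⁻¹ := by group
        _ = u * d * u⁻¹ * (u * (u * d) * u⁻¹) := by group
        _ = u * d * u⁻¹ * d * u := by rw [← mul_assoc u u, huu, one_mul, hui, ← mul_assoc]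
    have hz1 : z = 1 := by
      refine Centralize.eq_one_of_central_in_normalizer hG P hzP fun g hg => ?_
      by_cases hgP : g ∈ (P : Subgroup G)
      · exact hcom _ _ hgP hzP
      · have hgu : g * u ∈ (P : Subgroup G) := by
          have h2 : ((⟨g, hg⟩ : N) * ⟨u, hu⟩) ∈ (P : Subgroup G).subgroupOf N := by
            rw [mul_mem_iff_of_index_two hidx]
            simp only [mem_subgroupOf]
            exact iff_of_false hgP huP
          exact h2
        calc g * z = g * u * (u * z) := by rw [mul_assoc g u, ← mul_assoc u u, huu, one_mul]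
          _ = g * u * z * u := by rw [hzu, mul_assoc (g * u)]
          _ = z * (g * u) * u := by rw [hcom _ _ hgu hzP]
          _ = z * g := by rw [mul_assoc, mul_assoc g u, huu, mul_one]
    have hinv : u * d * u⁻¹ = d⁻¹ := (inv_eq_of_mul_eq_one_right hz1).symm
    have huH : u ∈ normalizer ((zpowers d : Subgroup G) : Set G) := by
      refine mem_normalizer_iff.2 fun y => ?_
      have hfwd : ∀ y ∈ zpowers d, u * y * u⁻¹ ∈ zpowers d := by
        intro y hy
        obtain ⟨k, rfl⟩ := mem_zpowers_iff.1 hy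
        rw [← conj_zpow, hinv]
        exact zpow_mem (inv_mem (mem_zpowers d)) k
      refine ⟨hfwd y, fun hy => ?_⟩
      have h2 := hfwd _ hy
      rwa [show u * (u * y * u⁻¹) * u⁻¹ = y by rw [hui, ← mul_assoc, ← mul_assoc, huu, one_mul,
        mul_assoc, huu, mul_one]] at h2
    have huC : u ∉ centralizer ({d} : Set G) := by
      intro hm
      have hud2 : u * d * u⁻¹ = d := mul_inv_eq_iff_eq_mul.2 (mem_centralizer_singleton_iff.1 hm)
      rw [hinv] at hud2
      have hd2 : d ^ 2 = 1 := by rw [pow_two]; nth_rewrite 1 [← hud2]; exact inv_mul_cancel d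
      have := orderOf_dvd_of_pow_eq_one hd2
      rw [hdo] at this
      norm_num at this
    have h2r : 2 ∣ r := by
      set C := centralizer ({d} : Set G)
      set H := normalizer ((zpowers d : Subgroup G) : Set G)
      haveI : (C.subgroupOf H).Normal := by
        refine ⟨fun c hc g => mem_subgroupOf.2 (mem_centralizer_singleton_iff.2 ?_)⟩
        simp only [coe_mul, InvMemClass.coe_inv]
        have hgd : (g : G)⁻¹ * d * g ∈ zpowers d := by
          have := (mem_normalizer_iff''.1 g.2 d).1 (mem_zpowers d)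
          exact this
        obtain ⟨k, hk⟩ := mem_zpowers_iff.1 hgd
        have hc' : Commute (c : G) ((g : G)⁻¹ * d * g) :=
          hk ▸ (Commute.zpow_right (mem_centralizer_singleton_iff.1 (mem_subgroupOf.1 hc)) k)
        calc (g : G) * c * (g : G)⁻¹ * d = g * (c * ((g : G)⁻¹ * d * g)) * (g : G)⁻¹ := by group
          _ = g * (((g : G)⁻¹ * d * g) * c) * (g : G)⁻¹ := by rw [hc'.eq]
          _ = d * ((g : G) * c * (g : G)⁻¹) := by group
      rw [← hrel]
      show 2 ∣ Nat.card (H ⧸ C.subgroupOf H)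
      have ho : orderOf (QuotientGroup.mk (⟨u, huH⟩ : H) : H ⧸ C.subgroupOf H) = 2 := by
        refine orderOf_eq_prime ?_ fun e => huC ?_
        · rw [← QuotientGroup.mk_pow, show (⟨u, huH⟩ : H) ^ 2 = 1 from Subtype.ext (by
            rw [pow_two]; exact huu), QuotientGroup.mk_one]
        · exact mem_subgroupOf.1 ((QuotientGroup.eq_one_iff _).1 e)
      exact ho ▸ orderOf_dvd_natCard _
    have key2 : ∀ m' ∈ Nat.divisors 192, ∀ r ∈ Nat.divisors (192 / m'), 2 ∣ r →
        ∀ s ∈ Nat.divisors m', s % 5 = 1 → 1 < s → 1 < 192 / m' / r →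
        (192 / m' / r ≤ 20 → 9600 ∣ (192 / m' / r).factorial) → (m' % 4 = 2 → s ∣ m' / 2) →
        False := by decide +kernel
    exact key2 m' hm'd r hrd h2r s hsm hs5 hs1 hi1 hfine hodd

theorem ne_5400 : Nat.card G ≠ 5400 := by
  intro h
  classical
  have hG : ¬ IsMulCommutative G := Basic.not_comm_of_not_prime (by rw [h]; norm_num)
  haveI : Fact (Nat.Prime 5) := ⟨by norm_num⟩
  have hab : ∀ Q : Sylow 5 G, Nat.card (Q : Subgroup G) = 25 := fun Q => by
    rw [Basic.card_sylow_eq_pow (a := 2) (m := 216) (by rw [h]; norm_num) (by norm_num) Q]; norm_num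
  have hab' : ∀ Q : Sylow 5 G, IsMulCommutative (Q : Subgroup G) := fun Q =>
    IsPGroup.isMulCommutative_of_card_eq_prime_sq (p := 5) (by rw [hab Q]; norm_num)
  obtain ⟨hd, hmod, h1, hf⟩ := Basic.sylow_count (p := 5) hG (h ▸ by norm_num) (a := 2) (m := 216)
    (by rw [h]; norm_num) (by norm_num)
  rw [h] at hf
  have key : ∀ n ∈ Nat.divisors 216, n % 5 = 1 → 1 < n → 10800 ∣ n.factorial → n = 36 ∨ n = 216 := by
    decide +kernel
  rcases key _ (Nat.mem_divisors.2 ⟨hd, by norm_num⟩) hmod h1 hf with hn | hn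
  rotate_left
  · obtain ⟨P⟩ : Nonempty (Sylow 5 G) := inferInstance
    haveI := hab' P
    refine Basic.not_normalizer_le_centralizer hG (h ▸ by norm_num) P ?_
    have hNP : (P : Subgroup G) = normalizer ((P : Subgroup G) : Set G) :=
      eq_of_le_of_card_ge le_normalizer (by rw [card_normalizer_sylow P hn h, hab P])
    exact hNP.ge.trans (le_centralizer _)
  obtain ⟨P, d, m', r, i, hdP, hdo, hC, hrel, hmri, hi1, hfine, hsd, hs5, hs1, hslt, hodd⟩ :=
    five_data hG (m := 216) (by rw [h]) (by norm_num) (by rw [hn]; norm_num)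
  rw [h] at hfine
  have hm'd : m' ∈ Nat.divisors 216 :=
    Nat.mem_divisors.2 ⟨⟨r * i, by rw [← hmri]; ring⟩, by norm_num⟩
  have hm'0 : 0 < m' := Nat.pos_of_mem_divisors hm'd
  have hrd : r ∈ Nat.divisors (216 / m') := Nat.mem_divisors.2 ⟨⟨i, by
    rw [← hmri, mul_assoc, Nat.mul_div_cancel_left _ hm'0]⟩, by
      rw [← hmri, mul_assoc, Nat.mul_div_cancel_left _ hm'0]
      exact fun e => by rw [mul_assoc, e, mul_zero] at hmri; norm_num at hmri⟩
  have hi : i = 216 / m' / r := by
    rw [← hmri, mul_assoc, Nat.mul_div_cancel_left _ hm'0,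
      Nat.mul_div_cancel_left _ (Nat.pos_of_mem_divisors hrd)]
  rw [hi] at hfine hi1
  generalize hs : Nat.card {Q : Sylow 5 G // d • Q = Q} = s at hsd hs5 hs1 hslt hodd
  rw [hn] at hslt
  have key2 : ∀ m' ∈ Nat.divisors 216, ∀ r ∈ Nat.divisors (216 / m'), ∀ s ∈ Nat.divisors m',
      s % 5 = 1 → 1 < s → s < 36 → 1 < 216 / m' / r →
      (216 / m' / r ≤ 20 → 10800 ∣ (216 / m' / r).factorial) → (m' % 4 = 2 → s ∣ m' / 2) →
      m' = 12 ∧ r = 1 ∧ s = 6 := by decide +kernel
  obtain ⟨rfl, rfl, rfl⟩ := key2 m' hm'd r hrd s (Nat.mem_divisors.2 ⟨hsd, hm'0.ne'⟩) hs5 hs1 hslt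
    hi1 hfine hodd
  -- `K` has `18` members, three in each Sylow subgroup
  have hj : ∀ Q : Sylow 5 G,
      Nat.card {y : G // IsConj d y ∧ y ∈ normalizer ((Q : Subgroup G) : Set G)} = 3 := by
    intro Q
    have hfix := FixedPoints.card_fixed_mul Q d
    rw [hs, hC, card_normalizer_sylow Q hn h] at hfix
    omega
  have hA := card_neighbours hab' hab hdo hrel (j := 3) (fun Q _ => (hj Q).ge)
  rw [hs] at hA
  have hdN : d ∈ normalizer ((P : Subgroup G) : Set G) := le_normalizer hdP
  obtain ⟨⟨e, hde, heN⟩, hne⟩ : ∃ y : {y : G // IsConj d y ∧ y ∈ normalizer ((P : Subgroup G) : Set G)},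
      y ≠ ⟨d, IsConj.refl d, hdN⟩ := by
    haveI : Nontrivial {y : G // IsConj d y ∧ y ∈ normalizer ((P : Subgroup G) : Set G)} :=
      Finite.one_lt_card_iff_nontrivial.1 (by rw [hj P]; norm_num)
    exact exists_ne _
  have hed : e ≠ d := fun he => hne (Subtype.ext he)
  have hgen : ∃ g, g * d * g⁻¹ = e := isConj_iff.1 hde
  obtain ⟨g, hg⟩ := hgen
  have heo : orderOf e = 5 := by
    rw [← hg]
    exact (orderOf_injective (MulAut.conj g).toMonoidHom (MulAut.conj g).injective d).trans hdo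
  have heP : e ∈ (P : Subgroup G) := mem_of_fixed (k := 1) (heo.trans (pow_one 5).symm)
    (Sylow.smul_eq_iff_mem_normalizer.2 heN)
  -- `d` and `e` have as many neighbours
  have hA2 : 13 ≤ Nat.card {y : G // IsConj d y ∧ Commute e y} := by
    refine le_trans hA (le_of_eq (Nat.card_congr ((MulAut.conj g).toEquiv.subtypeEquiv fun y => ?_)))
    simp only [MulEquiv.toEquiv_eq_coe, EquivLike.coe_coe, MulAut.conj_apply]
    refine and_congr ⟨fun hy => hy.trans (isConj_iff.2 ⟨g, rfl⟩),
      fun hy => hy.trans (isConj_iff.2 ⟨g, rfl⟩).symm⟩ ?_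
    rw [← hg, Commute.conj_iff]
  have hsupP : zpowers d ⊔ zpowers e = (P : Subgroup G) := by
    refine eq_of_le_of_card_ge (sup_le (zpowers_le.2 hdP) (zpowers_le.2 heP)) ?_
    have hd25 := card_dvd_of_le (sup_le (zpowers_le.2 hdP) (zpowers_le.2 heP) :
      zpowers d ⊔ zpowers e ≤ (P : Subgroup G))
    rw [hab P] at hd25 ⊢
    have hne5 : Nat.card ↥(zpowers d ⊔ zpowers e) ≠ 5 := by
      intro e5
      have heq : zpowers d = zpowers d ⊔ zpowers e :=
        eq_of_le_of_card_ge le_sup_left (by rw [e5, Nat.card_zpowers, hdo])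
      have hez : e ∈ zpowers d := heq ▸ mem_sup_right (mem_zpowers e)
      have hgN : g ∈ normalizer ((zpowers d : Subgroup G) : Set G) := by
        have hmap : (zpowers d).map (MulAut.conj g).toMonoidHom = zpowers d := by
          rw [MonoidHom.map_zpowers, show (MulAut.conj g).toMonoidHom d = e from hg]
          exact eq_of_le_of_card_ge (zpowers_le.2 hez) (by rw [Nat.card_zpowers, Nat.card_zpowers, hdo, heo])
        refine mem_normalizer_iff.2 fun z => ⟨fun hz => hmap ▸ ⟨z, hz, rfl⟩, fun hz => ?_⟩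
        rw [← hmap] at hz
        obtain ⟨z', hz', he⟩ := hz
        exact (MulAut.conj g).injective he ▸ hz'
      refine hed (hg ▸ mul_inv_eq_iff_eq_mul.2 ?_)
      exact mem_centralizer_singleton_iff.1 (relIndex_eq_one.1 hrel hgN)
    have h5 : 5 ≤ Nat.card ↥(zpowers d ⊔ zpowers e) := by
      have := Nat.le_of_dvd Nat.card_pos (card_dvd_of_le (le_sup_left : zpowers d ≤ zpowers d ⊔ zpowers e))
      rwa [Nat.card_zpowers, hdo] at this
    generalize Nat.card ↥(zpowers d ⊔ zpowers e) = c at hd25 hne5 h5 ⊢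
    have key3 : ∀ c ∈ Nat.divisors 25, c ≠ 5 → 5 ≤ c → 25 ≤ c := by decide +kernel
    exact key3 c (Nat.mem_divisors.2 ⟨hd25, by norm_num⟩) hne5 h5
  let S : Set G := {y | IsConj d y ∧ Commute d y}
  let T : Set G := {y | IsConj d y ∧ Commute e y}
  have hI : (S ∩ T).ncard ≤ 3 := by
    rw [← hj P, ← Nat.card_coe_set_eq]
    refine Nat.card_le_card_of_injective (fun y => ⟨y.1, y.2.1.1, centralizer_le_normalizer _ ?_⟩)
      fun a b hab => Subtype.ext (congrArg (fun z => z.1) hab)
    refine mem_centralizer_iff.2 fun z hz => ?_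
    have hz' : z ∈ centralizer ({y.1} : Set G) := by
      refine (sup_le (zpowers_le.2 ?_) (zpowers_le.2 ?_) : zpowers d ⊔ zpowers e ≤ _) (hsupP ▸ hz)
      · exact mem_centralizer_singleton_iff.2 y.2.1.2.eq
      · exact mem_centralizer_singleton_iff.2 y.2.2.2.eq
    exact mem_centralizer_singleton_iff.1 hz'
  have hU : (S ∪ T).ncard ≤ 18 := by
    have hcl := Basic.card_centralizer_mul_card_class d
    rw [hC, h] at hcl
    have hle : (S ∪ T).ncard ≤ Nat.card {y : G // IsConj d y} := by
      rw [← Nat.card_coe_set_eq]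
      exact Nat.card_le_card_of_injective (fun y => ⟨y.1, y.2.elim (·.1) (·.1)⟩)
        fun a b hab => Subtype.ext (congrArg (fun z => z.1) hab)
    omega
  have e1 := Set.ncard_union_add_ncard_inter S T
  have hSc : 13 ≤ S.ncard := by rw [← Nat.card_coe_set_eq]; exact hA
  have hTc : 13 ≤ T.ncard := by rw [← Nat.card_coe_set_eq]; exact hA2
  omega

end Cfsg.Agent.SmallSimple.Orders6232
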