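import Cfsg.Agent.Lib.SmallSimple.Orders6232.Tools

/-!
# Intersections of Sylow subgroups of index `p`
-/

set_option autoImplicit false
set_option linter.style.haveILetI false

namespace Cfsg.Agent.SmallSimple.Orders6232

open Subgroup MulAction

variable {G : Type*} [Group G] [Finite G] [IsSimpleGroup G] {p : ℕ} [Fact p.Prime]

/-- If `p²` divides `|G|` and `n_p` is not `1` modulo `p²`, two Sylow subgroups normalise their
intersection, of index at most `p` in each; its normaliser is proper. -/
theorem exists_intersection (hG : ¬ IsMulCommutative G) (hp2 : p * p ∣ Nat.card G)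
    (hmod : ¬ Nat.card (Sylow p G) % (p * p) = 1) :
    ∃ P R : Sylow p G, P ≠ R ∧
      (((P : Subgroup G) ⊓ (R : Subgroup G)).subgroupOf (P : Subgroup G)).index ≤ p ∧
      (P : Subgroup G) ≤ normalizer ((((P : Subgroup G) ⊓ (R : Subgroup G) : Subgroup G)) : Set G) ∧
      (R : Subgroup G) ≤ normalizer ((((P : Subgroup G) ⊓ (R : Subgroup G) : Subgroup G)) : Set G) ∧
      normalizer ((((P : Subgroup G) ⊓ (R : Subgroup G) : Subgroup G)) : Set G) ≠ ⊤ := by
  classical
  have hp : p.Prime := Fact.out
  set N := Nat.card G with hNdef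
  have hN0 : N ≠ 0 := Nat.card_pos.ne'
  have hpp := hp2
  obtain ⟨P, R, hPR, hidx⟩ := Cfsg.Agent.S0985.result (G := G) p 2 (by
    rw [pow_two, Nat.ModEq, Nat.one_mod_eq_one.2 (by nlinarith [hp.two_le] : p * p ≠ 1)]
    exact hmod)
  simp only [show (2 : ℕ) - 1 = 1 from rfl, pow_one] at hidx
  set D := (P : Subgroup G) ⊓ (R : Subgroup G) with hDdef
  have hcardPR : Nat.card (P : Subgroup G) = Nat.card (R : Subgroup G) :=
    P.card_eq_multiplicity.trans R.card_eq_multiplicity.symm
  have hiP : (D.subgroupOf (P : Subgroup G)).index ≤ p := by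
    rwa [hDdef, inf_subgroupOf_left]
  have hnorm : ∀ S : Sylow p G, D ≤ (S : Subgroup G) →
      (D.subgroupOf (S : Subgroup G)).index ≤ p →
      (S : Subgroup G) ≤ normalizer (D : Set G) := by
    intro S hDS hi
    haveI hn : (D.subgroupOf (S : Subgroup G)).Normal := by
      rcases eq_or_ne ((D.subgroupOf (S : Subgroup G)).index) 1 with h | h
      · rw [index_eq_one.1 h]; infer_instance
      · obtain ⟨j, hj⟩ := S.2.index (D.subgroupOf (S : Subgroup G))
        have hj1 : j = 1 := by
          rcases Nat.eq_zero_or_pos j with rfl | hj0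
          · exact absurd (by simpa using hj) h
          · by_contra hne
            have : p ^ 2 ≤ p ^ j := Nat.pow_le_pow_right hp.pos (by omega)
            rw [← hj] at this
            nlinarith [hp.two_le]
        rw [hj1, pow_one] at hj
        obtain ⟨k, hk⟩ := IsPGroup.iff_card.1 S.2
        refine normal_of_index_eq_minFac_card ?_
        have hk0 : k ≠ 0 := by
          rintro rfl
          rw [pow_zero] at hk
          have := (D.subgroupOf (S : Subgroup G)).index_dvd_card
          rw [hj, hk] at this
          exact hp.not_dvd_one this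
        rw [hj, hk, Nat.pow_minFac hk0, hp.minFac_eq]
    exact (normal_subgroupOf_iff_le_normalizer hDS).1 hn
  have hiR : (D.subgroupOf (R : Subgroup G)).index ≤ p := by
    have e1 := relIndex_mul_relIndex ⊥ D (P : Subgroup G) bot_le inf_le_left
    have e2 := relIndex_mul_relIndex ⊥ D (R : Subgroup G) bot_le inf_le_right
    rw [relIndex_bot_left, relIndex_bot_left] at e1 e2
    rw [← hcardPR] at e2
    have : D.relIndex (R : Subgroup G) = D.relIndex (P : Subgroup G) :=
      Nat.eq_of_mul_eq_mul_left Nat.card_pos (e2.trans e1.symm)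
    exact this.le.trans hiP
  set H := normalizer (D : Set G) with hHdef
  have hPH : (P : Subgroup G) ≤ H := hnorm P inf_le_left hiP
  have hRH : (R : Subgroup G) ≤ H := hnorm R inf_le_right hiR
  have hH : H ≠ ⊤ := by
    intro e
    rcases (normalizer_eq_top_iff.1 e).eq_bot_or_eq_top with h | h
    · rw [h, bot_subgroupOf, index_bot] at hiP
      rw [Basic.card_sylow_eq P] at hiP
      have h2 : 2 ≤ N.factorization p :=
        (hp.pow_dvd_iff_le_factorization hN0).1 (by rwa [pow_two])
      have := Nat.pow_le_pow_right hp.pos h2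
      nlinarith [hp.two_le]
    · exact Basic.sylow_ne_top hG P (top_le_iff.1 (h ▸ inf_le_left))
  exact ⟨P, R, hPR, hiP, hPH, hRH, hH⟩

end Cfsg.Agent.SmallSimple.Orders6232
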