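import Cfsg.Agent.Lib.SmallSimple.Orders1092
import Cfsg.Agent.Lib.SmallSimple.Order2520.Tools
import Cfsg.Agent.Lib.SmallSimple.IndexTwo

/-!
# Tools for the orders between 3641 and 6232

`Opt N p n e` collects the elementary restrictions on the Sylow number `n` and the index `e` of
`C(P)` in `N(P)` for a Sylow subgroup `P` of prime order `p` in a simple group of order `N`.
-/

set_option autoImplicit false
set_option linter.style.haveILetI false
set_option linter.unusedSectionVars false

namespace Cfsg.Agent.SmallSimple.Orders6232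

open Subgroup MulAction

variable {G : Type*} [Group G] [Finite G] {p : ℕ} [Fact p.Prime]

/-- The elements commuting with `x`, other than `P`, as a stable set. -/
def others (P : Sylow p G) : SubMulAction (centralizer ((P : Subgroup G) : Set G)) (Sylow p G) where
  carrier := {Q | Q ≠ P}
  smul_mem' c Q hQ := by
    intro h
    refine hQ ((smul_left_cancel_iff (c : G)).1 ?_)
    rw [Sylow.smul_eq_iff_mem_normalizer.2 (centralizer_le_normalizer _ c.2)]
    exact h

theorem card_others (P : Sylow p G) : Nat.card (others P) = Nat.card (Sylow p G) - 1 := by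
  classical
  haveI := Fintype.ofFinite (Sylow p G)
  show Nat.card {Q : Sylow p G // Q ≠ P} = _
  rw [Nat.card_eq_fintype_card, Fintype.card_subtype_compl, Fintype.card_subtype_eq,
    ← Nat.card_eq_fintype_card]

/-- The orbits of `P` on the other Sylow subgroups number `(n - 1) / p`. -/
theorem card_orbits_others (P : Sylow p G) (hP : Nat.card (P : Subgroup G) = p)
    {x : centralizer ((P : Subgroup G) : Set G)} (hx : (x : G) ∈ (P : Subgroup G))
    (hxo : orderOf (x : G) = p) :
    Nat.card (orbitRel.Quotient (zpowers x) (others P)) * p = Nat.card (Sylow p G) - 1 := by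
  classical
  have hpp : p.Prime := Fact.out
  have hx1 : (x : G) ≠ 1 := fun e => by rw [e, orderOf_one] at hxo; exact hpp.ne_one hxo.symm
  haveI := Fintype.ofFinite (orbitRel.Quotient (zpowers x) (others P))
  have hxo' : orderOf x = p := by rw [← Subgroup.orderOf_coe, hxo]
  have hsize : ∀ w : orbitRel.Quotient (zpowers x) (others P), Nat.card ↥w.orbit = p := by
    intro w
    obtain ⟨Q, rfl⟩ := Quotient.exists_rep w
    rw [orbitRel.Quotient.orbit_mk]
    have hle : Nat.card (orbit (zpowers x) Q) ∣ p := by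
      have := (stabilizer (zpowers x) Q).index_dvd_card
      rwa [index_stabilizer, Nat.card_zpowers, hxo', ← Nat.card_coe_set_eq] at this
    rcases (Nat.dvd_prime hpp).1 hle with h1 | h1
    · exfalso
      haveI : Subsingleton (orbit (zpowers x) Q) := (Nat.card_eq_one_iff_unique.1 h1).1
      have h : (⟨x, mem_zpowers x⟩ : zpowers x) • Q = Q := congrArg Subtype.val (Subsingleton.elim
        (⟨(⟨x, mem_zpowers x⟩ : zpowers x) • Q, mem_orbit _ _⟩ : orbit (zpowers x) Q)
        ⟨Q, mem_orbit_self Q⟩)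
      exact Q.2 (Order2520.eq_of_fixed hP hx hx1 (congrArg Subtype.val h))
    · exact h1
  have hsum := Nat.card_congr (selfEquivSigmaOrbits' (zpowers x) (others P))
  rw [Nat.card_sigma, Finset.sum_congr rfl fun w _ => hsize w, Finset.sum_const, Finset.card_univ,
    ← Nat.card_eq_fintype_card, smul_eq_mul, card_others] at hsum
  exact hsum.symm

/-- A subgroup of `C(P)` of order prime to `p` has order dividing `((n - 1) / p)!`. -/
theorem dvd_factorial_others [IsSimpleGroup G] (hG : ¬ IsMulCommutative G) (P : Sylow p G)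
    (hP : Nat.card (P : Subgroup G) = p) {R : Subgroup G}
    (hR : R ≤ centralizer ((P : Subgroup G) : Set G)) (hcop : Nat.Coprime (Nat.card R) p) :
    Nat.card R ∣ ((Nat.card (Sylow p G) - 1) / p).factorial := by
  classical
  have hpp : p.Prime := Fact.out
  haveI : IsCyclic (P : Subgroup G) := isCyclic_of_prime_card hP
  haveI := FixedPoints.faithful (p := p) hG (hP ▸ card_subgroup_dvd_card (P : Subgroup G))
  set C := centralizer ((P : Subgroup G) : Set G)
  obtain ⟨x, hx, -, hxo⟩ := Order2520.exists_gen hP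
  haveI : FaithfulSMul C (others P) := ⟨fun {a b} hab => Subtype.ext (eq_of_smul_eq_smul
    (α := Sylow p G) fun Q => by
      by_cases h : Q = P
      · rw [h, Sylow.smul_eq_iff_mem_normalizer.2 (centralizer_le_normalizer _ a.2),
          Sylow.smul_eq_iff_mem_normalizer.2 (centralizer_le_normalizer _ b.2)]
      · exact congrArg Subtype.val (hab ⟨Q, h⟩))⟩
  let x' : C := ⟨x, le_centralizer _ hx⟩
  have hR' : R.subgroupOf C ≤ centralizer ({x'} : Set C) := fun r hr =>
    mem_centralizer_singleton_iff.2 (Subtype.ext (mem_centralizer_iff.1 r.2 x hx).symm)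
  have hcard : Nat.card (R.subgroupOf C) = Nat.card R := Nat.card_congr (subgroupOfEquivOfLe hR).toEquiv
  have h := FixedPoints.card_dvd_factorial (Ω := others P) (x := x') (p := p)
    (Subtype.ext (by rw [SubmonoidClass.coe_pow]; exact hxo ▸ pow_orderOf_eq_one x)) hR'
    (hcard ▸ hcop)
  rw [hcard] at h
  rw [← card_orbits_others P hP (x := x') hx hxo, Nat.mul_div_cancel _ hpp.pos]
  exact h

/-- The restrictions on `n = n_p` and `e = [N(P) : C(P)]`; `m / (n * e)` is `|C(P)| / p`. -/
abbrev Opt (N p n e : ℕ) : Prop :=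
  n % p = 1 ∧ 1 < n ∧ 1 < e ∧ n * e ∣ N / p ∧ (n ≤ 20 → 2 * N ∣ n.factorial) ∧
    (n ≤ p + 2 → N / p / (n * e) = 1) ∧ (n = p + 1 → 2 * e ∣ p - 1) ∧
    (n < 4 * p + 1 → ¬ 2 ∣ N / p / (n * e)) ∧
    ∀ q ∈ [2, 3, 5, 7, 11, 13, 17, 19, 23], q ∣ N / p / (n * e) → q ≤ (n - 1) / p

/-- The data of a Sylow subgroup of prime order `p`, with its options. -/
theorem data [IsSimpleGroup G] (hG : ¬ IsMulCommutative G) (hp : 3 ≤ p) {N : ℕ}
    (hN : Nat.card G = N) (hd : p ∣ N) (hd2 : ¬ p * p ∣ N) :
    ∃ (P : Sylow p G) (n e k : ℕ), Nat.card (P : Subgroup G) = p ∧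
      Nat.card (Sylow p G) = n ∧ k = N / p / (n * e) ∧
      Nat.card (centralizer ((P : Subgroup G) : Set G)) = p * k ∧
      Nat.card (normalizer ((P : Subgroup G) : Set G)) = p * (k * e) ∧
      n ∈ (N / p).divisors ∧ e ∈ (p - 1).divisors ∧ ¬ p ∣ k ∧ Opt N p n e := by
  have hpp : p.Prime := Fact.out
  obtain ⟨m, hm⟩ := hd
  have hm' : ¬ p ∣ m := fun h => hd2 (hm ▸ mul_dvd_mul_left p h)
  have hNp : N / p = m := by rw [hm, Nat.mul_div_cancel_left _ hpp.pos]
  obtain ⟨P, c, e, hP, hC, hNP, hmul, hpc, he, he1, hdm, hmod, hn1⟩ :=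
    Orders1092.prime_data (p := p) (m := m) hG (hN.trans hm) hm'
  obtain ⟨k, rfl⟩ := hpc
  set n := Nat.card (Sylow p G)
  have hmul' : k * e * n = m := by
    refine Nat.eq_of_mul_eq_mul_left hpp.pos ?_
    rw [← hmul]; ring
  have hne : 0 < n * e := Nat.mul_pos (by omega) (by omega)
  have hk : k = m / (n * e) := by
    rw [← hmul', show k * e * n = k * (n * e) by ring, Nat.mul_div_cancel _ hne]
  have hm0 : m ≠ 0 := fun e => hm' (e ▸ dvd_zero p)
  have hp1 : p - 1 ≠ 0 := by omega
  have hpk : ¬ p ∣ k := fun h => hm' (hmul' ▸ (h.mul_right _).mul_right _)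
  refine ⟨P, n, e, k, hP, rfl, hNp ▸ hk, hC, by rw [hNP]; ring,
    Nat.mem_divisors.2 ⟨hNp ▸ hdm, hNp ▸ hm0⟩, Nat.mem_divisors.2 ⟨he, hp1⟩, hpk, ?_⟩
  rw [Opt, hNp, ← hk]
  refine ⟨hmod, hn1, he1, ⟨k, by rw [← hmul']; ring⟩, fun _ => hN ▸
    Basic.two_mul_card_dvd_factorial_sylow hG (hP ▸ card_subgroup_dvd_card (P : Subgroup G)),
    fun hle => ?_, fun heq => ?_, fun hlt h2 => ?_, fun q hq hqk => ?_⟩
  · have h := Centralize.card_centralizer_of_le hG hp P hP hle
    rw [hC] at h
    exact Nat.eq_of_mul_eq_mul_left hpp.pos (h.trans (mul_one p).symm)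
  · refine Filter.two_mul_dvd hG hp (hP ▸ card_subgroup_dvd_card (P : Subgroup G)) P hP heq ?_
    rw [hNP, ← hC, Centralize.card_centralizer_of_le hG hp P hP (by omega)]
  · exact Filter.no_involution hG hp P hP hlt (hC ▸ h2.mul_left p)
  · have hqq : q.Prime := by
      simp only [List.mem_cons, List.not_mem_nil, or_false] at hq
      rcases hq with rfl | rfl | rfl | rfl | rfl | rfl | rfl | rfl | rfl <;> norm_num
    haveI : Fact q.Prime := ⟨hqq⟩
    obtain ⟨⟨y, hy⟩, hyo⟩ := exists_prime_orderOf_dvd_card'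
      (G := centralizer ((P : Subgroup G) : Set G)) q (hC ▸ hqk.mul_left p)
    rw [Subgroup.orderOf_mk] at hyo
    have h := dvd_factorial_others hG P hP (R := zpowers y) (zpowers_le.2 hy) (by
      rw [Nat.card_zpowers, hyo]
      exact (Nat.coprime_primes hqq hpp).2 fun h => hpk (h ▸ hqk))
    rw [Nat.card_zpowers, hyo] at h
    exact hqq.dvd_factorial.1 h

section Fixed

/-- An element centralising `P` fixes a number of Sylow subgroups congruent to one. -/
theorem fix_mod_one (P : Sylow p G) (hP : Nat.card (P : Subgroup G) = p) {y : G}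
    (hy : y ∈ centralizer ((P : Subgroup G) : Set G)) :
    Nat.card {Q : Sylow p G // y • Q = Q} % p = 1 := by
  classical
  obtain ⟨x, hx, hx1, hxo⟩ := Order2520.exists_gen hP
  set s : Set (Sylow p G) := {Q | y • Q = Q}
  have h := Order2520.fixed_mod (α := Sylow p G) (p := p) (x := x) (hxo ▸ pow_orderOf_eq_one x) s
    (fun Q (hQ : y • Q = Q) => by
      show y • (x • Q) = x • Q
      rw [← mul_smul, ← mem_centralizer_iff.1 hy x hx, mul_smul, hQ])
  show Nat.card s % p = 1
  rw [← h]
  have : Nat.card {Q : Sylow p G // Q ∈ s ∧ x • Q = Q} = 1 := by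
    refine Nat.card_eq_one_iff_exists.2 ⟨⟨P, Sylow.smul_eq_iff_mem_normalizer.2
      (centralizer_le_normalizer _ hy), Sylow.smul_eq_iff_mem_normalizer.2 (le_normalizer hx)⟩,
      fun Q => Subtype.ext (Order2520.eq_of_fixed hP hx hx1 Q.2.2)⟩
  rw [this, Nat.one_mod_eq_one.2 (Fact.out : p.Prime).ne_one]

/-- An element of `N(P)` outside `C(P)` fixes at most one Sylow subgroup in each orbit of `P`. -/
theorem fix_le (P : Sylow p G) (hP : Nat.card (P : Subgroup G) = p) {u : G}
    (hu : u ∈ normalizer ((P : Subgroup G) : Set G))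
    (huC : u ∉ centralizer ((P : Subgroup G) : Set G)) :
    Nat.card {Q : Sylow p G // u • Q = Q} ≤ 1 + (Nat.card (Sylow p G) - 1) / p := by
  classical
  have hpp : p.Prime := Fact.out
  obtain ⟨x, hx, hx1, hxo⟩ := Order2520.exists_gen hP
  let x' : centralizer ((P : Subgroup G) : Set G) := ⟨x, (by
    haveI : IsCyclic (P : Subgroup G) := isCyclic_of_prime_card hP
    exact le_centralizer _ hx)⟩
  have horb := card_orbits_others P hP (x := x') hx hxo
  rw [← horb, Nat.mul_div_cancel _ hpp.pos]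
  let f : {Q : Sylow p G // u • Q = Q} → Option (orbitRel.Quotient (zpowers x') (others P)) :=
    fun Q => if h : Q.1 = P then none else some (Quotient.mk _ ⟨Q.1, h⟩)
  have hf : Function.Injective f := by
    intro a b hab
    apply Subtype.ext
    by_cases ha : a.1 = P
    · by_cases hb : b.1 = P
      · rw [ha, hb]
      · simp [f, ha, hb] at hab
    · by_cases hb : b.1 = P
      · simp [f, ha, hb] at hab
      · simp only [f, dif_neg ha, dif_neg hb, Option.some.injEq] at hab
        have h2 : orbitRel (zpowers x') (others P) ⟨a.1, ha⟩ ⟨b.1, hb⟩ := Quotient.exact hab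
        rw [orbitRel_apply, mem_orbit_iff] at h2
        obtain ⟨⟨z, hz⟩, hz2⟩ := h2
        have hz3 : (z : G) • b.1 = a.1 := congrArg Subtype.val hz2
        have hzP : (z : G) ∈ (P : Subgroup G) := by
          obtain ⟨i, rfl⟩ := mem_zpowers_iff.1 hz
          rw [SubgroupClass.coe_zpow]
          exact zpow_mem hx i
        rcases eq_or_ne (z : G) 1 with h1 | h1
        · rw [← hz3, h1, one_smul]
        · exfalso
          have hconj : u * z * u⁻¹ ∈ (P : Subgroup G) := (mem_normalizer_iff.1 hu _).1 hzP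
          have hw : ((z : G)⁻¹ * (u * z * u⁻¹)) • b.1 = b.1 := by
            have hub : u⁻¹ • b.1 = b.1 := by
              calc u⁻¹ • b.1 = u⁻¹ • (u • b.1) := by rw [b.2]
                _ = b.1 := inv_smul_smul u b.1
            rw [mul_smul, mul_smul, mul_smul, hub, hz3, a.2, ← hz3, inv_smul_smul]
          rcases eq_or_ne ((z : G)⁻¹ * (u * z * u⁻¹)) 1 with h3 | h3
          · apply huC
            have h4 : u * z = z * u := mul_inv_eq_iff_eq_mul.1 (inv_mul_eq_one.1 h3).symm
            rw [← Order2520.cent_eq hP hzP h1]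
            exact mem_centralizer_singleton_iff.2 h4
          · exact hb (Order2520.eq_of_fixed hP (mul_mem (inv_mem hzP) hconj) h3 hw)
  have h := Nat.card_le_card_of_injective f hf
  rw [Finite.card_option] at h
  omega

/-- In `C(P) = P × R` the elements of order prime to `p` inject into `C(P) / P`. -/
theorem card_elements_le (P : Sylow p G) (hP : Nat.card (P : Subgroup G) = p) {k : ℕ}
    (hC : Nat.card (centralizer ((P : Subgroup G) : Set G)) = p * k) {m : ℕ}
    (hm : Nat.Coprime m p) :
    Nat.card {y : G // y ∈ centralizer ((P : Subgroup G) : Set G) ∧ y ^ m = 1} ≤ k := by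
  classical
  have hpp : p.Prime := Fact.out
  haveI : IsCyclic (P : Subgroup G) := isCyclic_of_prime_card hP
  set C := centralizer ((P : Subgroup G) : Set G)
  have hidx : Nat.card (C ⧸ (P : Subgroup G).subgroupOf C) = k := by
    have h := card_mul_index ((P : Subgroup G).subgroupOf C)
    rw [Nat.card_congr (subgroupOfEquivOfLe (le_centralizer _)).toEquiv, hP, hC] at h
    exact Nat.eq_of_mul_eq_mul_left hpp.pos h
  rw [← hidx]
  refine Nat.card_le_card_of_injective
    (fun y => (QuotientGroup.mk (⟨y.1, y.2.1⟩ : C) : C ⧸ (P : Subgroup G).subgroupOf C))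
    fun a b hab => Subtype.ext ?_
  have h := QuotientGroup.eq.1 hab
  rw [mem_subgroupOf] at h
  change a.1⁻¹ * b.1 ∈ (P : Subgroup G) at h
  have hc : Commute a.1⁻¹ b.1 := by
    have h1 := mem_centralizer_iff.1 a.2.1 _ h
    have : b.1 * a.1⁻¹ = a.1⁻¹ * b.1 := by
      calc b.1 * a.1⁻¹ = a.1 * (a.1⁻¹ * b.1) * a.1⁻¹ := by group
        _ = (a.1⁻¹ * b.1) * a.1 * a.1⁻¹ := by rw [h1]
        _ = a.1⁻¹ * b.1 := by group
    exact this.symm
  have hpm : (a.1⁻¹ * b.1) ^ m = 1 := by rw [hc.mul_pow, inv_pow, a.2.2, b.2.2, inv_one, mul_one]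
  have hpp' : (a.1⁻¹ * b.1) ^ p = 1 :=
    congrArg Subtype.val ((congrArg ((⟨_, h⟩ : (P : Subgroup G)) ^ ·) hP.symm).trans pow_card_eq_one' :
      (⟨_, h⟩ : (P : Subgroup G)) ^ p = 1)
  have h1 : (a.1⁻¹ * b.1) ^ Nat.gcd m p = 1 := pow_gcd_eq_one.2 ⟨hpm, hpp'⟩
  rw [hm.gcd_eq_one, pow_one, inv_mul_eq_one] at h1
  exact h1

/-- If `y ∈ C(P)` fixes more than `1 + (n - 1) / p` Sylow subgroups, its conjugates in `N(P)` lie
in `C(P)`. -/
theorem conj_mem_centralizer (P : Sylow p G) (hP : Nat.card (P : Subgroup G) = p) {y v : G}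
    (hy : 1 + (Nat.card (Sylow p G) - 1) / p < Nat.card {Q : Sylow p G // y • Q = Q})
    (hv : IsConj y v) (hvN : v ∈ normalizer ((P : Subgroup G) : Set G)) :
    v ∈ centralizer ((P : Subgroup G) : Set G) := by
  by_contra h
  have := fix_le P hP hvN h
  rw [← Order2520.card_fixed_conj hv] at this
  omega

/-- An element of prime order fixes a number of points congruent to their number. -/
theorem fix_mod_prime {α : Type*} [Finite α] [MulAction G α] {r : ℕ} [Fact r.Prime] {y : G}
    (hy : orderOf y = r) : Nat.card {a : α // y • a = a} % r = Nat.card α % r :=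
  Order2520.fixed_mod_univ (hy ▸ pow_orderOf_eq_one y)

theorem pow_conj_eq_one {a b : G} {m : ℕ} (h : IsConj a b) (ha : a ^ m = 1) : b ^ m = 1 := by
  obtain ⟨g, rfl⟩ := isConj_iff.1 h
  rw [conj_pow, ha, mul_one, mul_inv_cancel]

theorem fix_lt [IsSimpleGroup G] (hG : ¬ IsMulCommutative G) (hpG : p ∣ Nat.card G) {y : G}
    (hy : y ≠ 1) : Nat.card {Q : Sylow p G // y • Q = Q} < Nat.card (Sylow p G) := by
  classical
  haveI := FixedPoints.faithful (p := p) hG hpG
  refine lt_of_le_of_ne (Nat.card_le_card_of_injective _ Subtype.val_injective) fun h => hy ?_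
  refine eq_of_smul_eq_smul (α := Sylow p G) fun Q => ?_
  obtain ⟨Q', rfl⟩ := ((Nat.bijective_iff_injective_and_card (Subtype.val :
    {Q : Sylow p G // y • Q = Q} → Sylow p G)).2 ⟨Subtype.val_injective, h⟩).2 Q
  rw [one_smul]
  exact Q'.2

end Fixed

/-- With `|C(P)| = p q` and `q` exactly dividing `|G|`, `N(P)` normalises a Sylow `q`-subgroup. -/
theorem normalizer_le_normalizer {q : ℕ} [Fact q.Prime] (P : Sylow p G)
    (hP : Nat.card (P : Subgroup G) = p) (hpq : p ≠ q)
    (hC : Nat.card (centralizer ((P : Subgroup G) : Set G)) = p * q)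
    (hq : ∀ Q : Sylow q G, Nat.card (Q : Subgroup G) = q) :
    ∃ Q : Sylow q G, (Q : Subgroup G) ≤ centralizer ((P : Subgroup G) : Set G) ∧
      normalizer ((P : Subgroup G) : Set G) ≤ normalizer ((Q : Subgroup G) : Set G) := by
  obtain ⟨⟨w, hw⟩, hwo⟩ := exists_prime_orderOf_dvd_card'
    (G := centralizer ((P : Subgroup G) : Set G)) q (hC ▸ dvd_mul_left q p)
  rw [Subgroup.orderOf_mk] at hwo
  obtain ⟨Q, hwQ, hw1⟩ := Order2520.exists_sylow hq hwo
  have hz : zpowers w = (Q : Subgroup G) := Centralize.sylow_le_iff_mem hwQ hw1 (hq Q)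
  refine ⟨Q, hz ▸ zpowers_le.2 hw, fun g hg => ?_⟩
  refine Sylow.smul_eq_iff_mem_normalizer.1 (Sylow.ext ?_)
  refine eq_of_le_of_card_ge ?_ ((hq Q).trans (hq (g • Q)).symm).le
  rw [Sylow.coe_subgroup_smul, Subgroup.pointwise_smul_def]
  rintro _ ⟨y, hy, rfl⟩
  rcases eq_or_ne y 1 with rfl | hy1
  · simp
  have hyo : orderOf y = q := by
    have hd := orderOf_dvd_natCard (⟨y, hy⟩ : (Q : Subgroup G))
    rw [Subgroup.orderOf_mk, hq] at hd
    exact ((Nat.dvd_prime (Fact.out : q.Prime)).1 hd).resolve_left (orderOf_eq_one_iff.not.2 hy1)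
  have hyC : y ∈ centralizer ((P : Subgroup G) : Set G) := by
    have hy' : y ∈ zpowers w := hz.symm ▸ hy
    exact zpowers_le.2 hw hy'
  rw [← hz]
  refine Orders1092.order_unique P hP hpq hC hw hwo ?_ ?_
  · change g * y * g⁻¹ ∈ _
    refine mem_centralizer_iff.2 fun a ha => ?_
    have ha' : g⁻¹ * a * g ∈ (P : Subgroup G) := (mem_normalizer_iff''.1 hg a).1 ha
    have h := mem_centralizer_iff.1 hyC _ ha'
    calc a * (g * y * g⁻¹) = g * (g⁻¹ * a * g * y) * g⁻¹ := by group
      _ = g * (y * (g⁻¹ * a * g)) * g⁻¹ := by rw [h]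
      _ = g * y * g⁻¹ * a := by group
  · exact (orderOf_injective (MulAut.conj g).toMonoidHom (MulAut.conj g).injective y).trans hyo

/-- Thompson transfer relative to `C(P)`: an involution of `N(P)` is conjugate into `C(P)` when
`N(P)` holds a Sylow `2`-subgroup and `[N(P) : C(P)]` is twice an odd number. -/
theorem exists_conj_centralizer [IsSimpleGroup G] (hG : ¬ IsMulCommutative G)
    [Fact (Nat.Prime 2)] (P : Sylow p G) (T : Sylow 2 G)
    (hT : (T : Subgroup G) ≤ normalizer ((P : Subgroup G) : Set G))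
    (hidx : ¬ 4 ∣ (centralizer ((P : Subgroup G) : Set G)).relIndex
      (normalizer ((P : Subgroup G) : Set G)))
    {u : G} (huT : u ∈ (T : Subgroup G)) (huo : orderOf u = 2)
    (huC : u ∉ centralizer ((P : Subgroup G) : Set G)) :
    ∃ v, IsConj u v ∧ v ∈ centralizer ((P : Subgroup G) : Set G) := by
  set C := centralizer ((P : Subgroup G) : Set G)
  set N := normalizer ((P : Subgroup G) : Set G)
  haveI : (C.subgroupOf N).Normal := by
    refine ⟨fun c hc n => mem_subgroupOf.2 (mem_centralizer_iff.2 fun y hy => ?_)⟩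
    have hy' : (n : G)⁻¹ * y * (n : G) ∈ (P : Subgroup G) := (mem_normalizer_iff''.1 n.2 y).1 hy
    have h := mem_centralizer_iff.1 (mem_subgroupOf.1 hc) _ hy'
    simp only [coe_mul, InvMemClass.coe_inv]
    calc y * ((n : G) * c * (n : G)⁻¹) = (n : G) * ((n : G)⁻¹ * y * n * c) * (n : G)⁻¹ := by group
      _ = (n : G) * (c * ((n : G)⁻¹ * y * n)) * (n : G)⁻¹ := by rw [h]
      _ = (n : G) * c * (n : G)⁻¹ * y := by group
  have hd : C.relIndex (T : Subgroup G) ∣ C.relIndex N := by
    rw [← relIndex_subgroupOf hT]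
    exact relIndex_dvd_index_of_normal _ _
  have hrel : ((T : Subgroup G) ⊓ C).relIndex (T : Subgroup G) = 2 := by
    rw [inf_relIndex_left]
    obtain ⟨j, hj⟩ := T.2.index (C.subgroupOf (T : Subgroup G))
    change C.relIndex (T : Subgroup G) = 2 ^ j at hj
    rcases j with _ | _ | j
    · exact absurd (relIndex_eq_one.1 hj huT) huC
    · exact hj
    · exact absurd (((Nat.pow_dvd_pow 2 (by omega : 2 ≤ j + 1 + 1)).trans hj.symm.dvd).trans hd) hidx
  have htwo : ∀ H : Subgroup G, H.index ≠ 2 := by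
    intro H hH
    haveI : H.Normal := normal_of_index_eq_two hH
    rcases (inferInstance : H.Normal).eq_bot_or_eq_top with h | h
    · rw [h, index_bot] at hH
      haveI : IsCyclic G := isCyclic_of_prime_card hH
      exact hG inferInstance
    · rw [h, index_top] at hH
      exact absurd hH (by norm_num)
  obtain ⟨g, hg⟩ := Cfsg.Agent.Involutions.ThompsonTransfer.exists_conj_mem htwo T _
    inf_le_left hrel u huo
  exact ⟨_, isConj_iff.2 ⟨g, rfl⟩, hg.2⟩

/-- A group normalising `P` of prime order, of order prime to `|C(P)|`, is cyclic. -/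
theorem isCyclic_of_le_normalizer (P : Sylow p G) (hP : Nat.card (P : Subgroup G) = p)
    {S : Subgroup G} (hS : S ≤ normalizer ((P : Subgroup G) : Set G))
    (hcop : Nat.Coprime (Nat.card S) (Nat.card (centralizer ((P : Subgroup G) : Set G)))) :
    IsCyclic S := by
  haveI : IsCyclic (P : Subgroup G) := isCyclic_of_prime_card hP
  haveI : IsCyclic (MulAut (P : Subgroup G)) := by
    haveI : IsCyclic (ZMod (Nat.card (P : Subgroup G)))ˣ := by
      rw [hP]
      exact ZMod.isCyclic_units_prime Fact.out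
    exact isCyclic_of_surjective _ (IsCyclic.mulAutMulEquiv (P : Subgroup G)).symm.surjective
  refine isCyclic_of_injective ((P : Subgroup G).normalizerMonoidHom.comp (Subgroup.inclusion hS)) ?_
  rw [← MonoidHom.ker_eq_bot_iff, eq_bot_iff]
  intro y hy
  have hy' : Subgroup.inclusion hS y ∈ (P : Subgroup G).normalizerMonoidHom.ker := hy
  rw [Subgroup.normalizerMonoidHom_ker, mem_subgroupOf] at hy'
  have h1 := orderOf_dvd_natCard y
  have h2 := orderOf_dvd_natCard (⟨(y : G), hy'⟩ : centralizer ((P : Subgroup G) : Set G))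
  rw [show orderOf (⟨(y : G), hy'⟩ : centralizer ((P : Subgroup G) : Set G)) = orderOf y from
    (Subgroup.orderOf_coe _).symm.trans (Subgroup.orderOf_coe y)] at h2
  refine Subgroup.mem_bot.2 (orderOf_eq_one_iff.1 ?_)
  exact Nat.eq_one_of_dvd_coprimes hcop h1 h2

/-- A Sylow subgroup of `G` inside `H` containing a given `q`-element of `H`. -/
theorem exists_sylow_le_mem {q : ℕ} [Fact q.Prime] (H : Subgroup G) (hH : ¬ q ∣ H.index) {u : G}
    (hu : u ∈ H) (huo : orderOf u = q) :
    ∃ T : Sylow q G, (T : Subgroup G) ≤ H ∧ u ∈ (T : Subgroup G) := by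
  obtain ⟨S, hS⟩ := (IsPGroup.of_card (n := 1) (by
    rw [Nat.card_zpowers, Subgroup.orderOf_mk, huo, pow_one]) :
    IsPGroup q (zpowers (⟨u, hu⟩ : H))).exists_le_sylow
  obtain ⟨T, hST⟩ := (S.isPGroup'.map H.subtype).exists_le_sylow
  have he : (S : Subgroup H).map H.subtype = (T : Subgroup G) := by
    refine eq_of_le_of_card_ge hST ?_
    rw [card_map_of_injective H.subtype_injective, Basic.card_sylow_eq T, Basic.card_sylow_eq S]
    refine Nat.pow_le_pow_right (Fact.out : q.Prime).pos (le_of_eq ?_)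
    rw [← card_mul_index H, Nat.factorization_mul Nat.card_pos.ne' H.index_ne_zero_of_finite,
      Finsupp.add_apply, Nat.factorization_eq_zero_of_not_dvd hH, add_zero]
  exact ⟨T, he ▸ map_subtype_le _, he ▸ ⟨⟨u, hu⟩, hS (mem_zpowers _), rfl⟩⟩

/-- A simple group of order four times an odd number has order divisible by three. -/
theorem three_dvd_of_four [IsSimpleGroup G] (hG : ¬ IsMulCommutative G) {m : ℕ}
    (h : Nat.card G = 4 * m) (hm : ¬ 2 ∣ m) : 3 ∣ Nat.card G := by
  classical
  haveI : Fact (Nat.Prime 2) := ⟨Nat.prime_two⟩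
  obtain ⟨T⟩ : Nonempty (Sylow 2 G) := inferInstance
  have hT : Nat.card (T : Subgroup G) = 4 := by
    rw [Basic.card_sylow_eq_pow (a := 2) (m := m) (by rw [h]; norm_num) hm T]; norm_num
  haveI : IsMulCommutative (T : Subgroup G) :=
    IsPGroup.isMulCommutative_of_card_eq_prime_sq (p := 2) (by rw [hT]; norm_num)
  set C := centralizer ((T : Subgroup G) : Set G)
  set N := normalizer ((T : Subgroup G) : Set G)
  by_contra h3
  refine Basic.not_normalizer_le_centralizer hG (h ▸ (by norm_num : 2 ∣ 4).mul_right m) T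
    (relIndex_eq_one.1 ?_)
  have hdvd : C.relIndex N ∣ (Nat.card (T : Subgroup G) - 1).factorial := by
    rw [relIndex, ← Subgroup.normalizerMonoidHom_ker, index_ker]
    refine (card_subgroup_dvd_card _).trans ?_
    let A := {y : (T : Subgroup G) // y ≠ 1}
    let f : MulAut (T : Subgroup G) →* Equiv.Perm A :=
      { toFun := fun φ => φ.toEquiv.subtypeEquiv fun y => (EmbeddingLike.map_ne_one_iff (f := φ)).symm
        map_one' := by ext; rfl
        map_mul' := fun _ _ => by ext; rfl }
    have hf : Function.Injective f := fun φ ψ hφ => MulEquiv.ext fun y => by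
      by_cases hy : y = 1
      · rw [hy, map_one, map_one]
      · exact congrArg Subtype.val (Equiv.congr_fun hφ ⟨y, hy⟩)
    have := card_dvd_of_injective f hf
    rw [Nat.card_perm] at this
    have hA : Nat.card A = Nat.card (T : Subgroup G) - 1 := by
      haveI := Fintype.ofFinite (T : Subgroup G)
      rw [Nat.card_eq_fintype_card, Fintype.card_subtype_compl, Fintype.card_subtype_eq,
        ← Nat.card_eq_fintype_card]
    rwa [hA] at this
  rw [hT] at hdvd
  norm_num [Nat.factorial] at hdvd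
  have h4 : Nat.card (T : Subgroup G) ∣ Nat.card C := card_dvd_of_le (le_centralizer _)
  have hsplit := relIndex_mul_relIndex ⊥ C N bot_le (centralizer_le_normalizer _)
  rw [relIndex_bot_left, relIndex_bot_left] at hsplit
  have hN : Nat.card N ∣ Nat.card G := card_subgroup_dvd_card _
  obtain ⟨a, ha⟩ := h4
  rw [hT] at ha
  rw [← hsplit, ha, h, mul_assoc] at hN
  have hrm : C.relIndex N ∣ m := dvd_trans ⟨a, mul_comm _ _⟩ (Nat.dvd_of_mul_dvd_mul_left (by norm_num) hN)
  have hle := Nat.le_of_dvd (by norm_num) hdvd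
  have hne3 : C.relIndex N ≠ 3 := fun e => h3 (h ▸ (e ▸ hrm).mul_left 4)
  have hodd : ¬ 2 ∣ C.relIndex N := fun e => hm (e.trans hrm)
  interval_cases hh : C.relIndex N <;> omega

/-- The arithmetic of `IndexTwo.equation` has no solution. -/
abbrev NoEquation (N q : ℕ) : Prop :=
  ∀ x ∈ List.range 80, 1 < x → x ∣ N → (x + 1) ∣ N → ∀ c ∈ N.divisors,
    ∀ d ∈ List.range (2 * x + 1), N * (d * d) ≠ q * (c * c) * (x * (x + 1))

/-- A self-centralising Sylow subgroup of order `p` with index two in its normaliser is excluded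
when the equation has no solution. -/
theorem false_of_equation [IsSimpleGroup G] (hG : ¬ IsMulCommutative G) (hp : p ≠ 2) {N : ℕ}
    (hN : Nat.card G = N) (hN' : N < 6400) (P : Sylow p G) (hP : Nat.card (P : Subgroup G) = p)
    (hC : Nat.card (centralizer ((P : Subgroup G) : Set G)) = p)
    (hNP : Nat.card (normalizer ((P : Subgroup G) : Set G)) = p * 2) (hno : NoEquation N p) :
    False := by
  classical
  haveI := Fintype.ofFinite G
  obtain ⟨-, hidx⟩ := Orders.selfCent_of_prime_index hG P hP Nat.prime_two hNP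
  obtain ⟨t, a, x, -, -, hx1, hax, hxd, hxd1, heq⟩ := IndexTwo.equation hG (q := p) hp
    (EvenPSL.selfCent_of_card P hP hC) hP hidx
  have hax2 := abs_le.1 hax
  obtain ⟨d, hd'⟩ : ∃ d : ℕ, (a - x) ^ 2 = (d : ℤ) ^ 2 ∧ d ≤ 2 * x :=
    ⟨(a - x).natAbs, (Int.natAbs_sq _).symm, by omega⟩
  rw [hd'.1, hN] at heq
  rw [hN] at hxd hxd1
  have hcd : Nat.card (centralizer ({t} : Set G)) ∣ N := hN ▸ card_subgroup_dvd_card _
  generalize Nat.card (centralizer ({t} : Set G)) = c at hcd heq
  have hN0 : N ≠ 0 := hN ▸ Nat.card_pos.ne'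
  have hxx : x * (x + 1) ∣ N :=
    (Nat.Coprime.mul_dvd_of_dvd_of_dvd (by simp [Nat.coprime_self_add_right]) hxd hxd1)
  have hx80 : x < 80 := by
    have := Nat.le_of_dvd (by omega) hxx
    nlinarith
  have heq' : N * (d * d) = p * (c * c) * (x * (x + 1)) := by
    have : (N : ℤ) * ((d : ℤ) * d) = p * ((c : ℤ) * c) * (x * (x + 1)) := by
      rw [sq, sq] at heq; exact heq
    exact_mod_cast this
  exact hno x (List.mem_range.2 hx80) hx1 hxd hxd1 c (Nat.mem_divisors.2 ⟨hcd, hN0⟩) d
    (List.mem_range.2 (by omega)) heq'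

end Cfsg.Agent.SmallSimple.Orders6232
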